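import Cfsg.Agent.H99.HN.Cover
import Cfsg.Agent.H99.HN.ChainData

/-!
The subgroup generated by `y` and its conjugate under `x` is the stabiliser of the first of the
1408 points and fixes exactly four points.
-/

set_option autoImplicit false
set_option maxRecDepth 100000

namespace H99.HN

open Cfsg H81.HNCover

/-- The letters of the first tree. -/
def lettA : List (List ℕ) := [[2], [1, 2, 0], [3], [1, 3, 0]]

/-- The letters of the second tree. -/
def lettB : List (List ℕ) :=
  [[1, 3, 0, 3, 1, 2, 0, 1, 2, 0, 2, 2, 1, 2, 0],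
   [1, 3, 0, 1, 3, 0, 3, 1, 2, 0, 1, 2, 0, 2, 1, 2, 0]]

/-- The entry of a packed tree. -/
def ent (E i : ℕ) : ℕ := Nat.land (Nat.shiftRight E (24 * i)) 16777215

/-- A tree is valid at a base point. -/
def treeOK (m b len : ℕ) (ws : List (List ℕ)) (E P : ℕ) : Bool :=
  Nat.beq (ent E 0) (b * 4 * m) &&
    (List.range len).all (fun i =>
      Nat.beq (tab P (ent E i / (4 * m))) i &&
      (Nat.beq i 0 ||
        (decide (ent E i % m < i) && decide (ent E i / m % 4 < ws.length) &&
          Nat.beq (applyW (ws.getD (ent E i / m % 4) []) (ent E (ent E i % m) / (4 * m)))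
            (ent E i / (4 * m)))))

theorem treeA_ok : treeOK 1024 196 504 lettA orbA posA = true := by decide +kernel

theorem treeB_ok : treeOK 1024 16 125 lettB orbB posB = true := by decide +kernel

theorem treeC_ok : treeOK 2048 0 1408 [[0], [2], [4]] orbC posC = true := by decide +kernel

theorem fix_ok : applyW [1, 3, 0, 3, 1, 2, 0, 1, 2, 0, 2, 2, 1, 2, 0] 196 = 196 ∧
    applyW [1, 3, 0, 1, 3, 0, 3, 1, 2, 0, 1, 2, 0, 2, 1, 2, 0] 196 = 196 ∧
    applyW [3, 1, 3, 0, 3, 1, 3, 0] 196 = 196 ∧ applyW [3, 1, 3, 0, 3, 1, 3, 0] 16 = 16 ∧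
    (List.range 1408).all (fun i => applyW [3, 1, 3, 0, 3, 1, 3, 0] i == i) = false ∧
    applyW [2] 0 = 0 ∧ applyW [1, 2, 0] 0 = 0 ∧
    (List.range 1408).all (fun i => decide (i < 4) || !(applyW [2] i == i) || !(applyW [1, 2, 0] i == i)) = true := by
  decide +kernel

universe u

variable {N : Type u} [Group N] (M : Model N)

/-- The action on the points. -/
@[reducible] def pts : MulAction N (Fin 1408) := MulAction.compHom _ M.ρ

theorem tree_orbit {m len : ℕ} (hm : 0 < m) {b : Fin 1408} {ws : List (List ℕ)} {E P : ℕ}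
    (S : Subgroup N) (hw : ∀ w ∈ ws, M.wordG w ∈ S) (h : treeOK m b.val len ws E P = true) :
    len ≤ Set.ncard {p : Fin 1408 | ∃ n ∈ S, M.ρ n b = p} := by
  classical
  simp only [treeOK, Bool.and_eq_true, decide_eq_true_eq, List.all_eq_true, List.mem_range,
    Bool.or_eq_true, Nat.beq_eq] at h
  obtain ⟨h0, hs⟩ := h
  have hreach : ∀ i, i < len → ∃ n ∈ S, (M.ρ n b).val = ent E i / (4 * m) := by
    intro i
    induction i using Nat.strong_induction_on with
    | _ i ih =>
      intro hi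
      rcases (hs i hi).2 with h1 | ⟨⟨hp, hl⟩, hx⟩
      · subst h1
        refine ⟨1, one_mem _, ?_⟩
        rw [h0, map_one, Equiv.Perm.one_apply, mul_assoc, Nat.mul_div_cancel _ (by omega)]
      · obtain ⟨n, hn, e⟩ := ih _ hp (hp.trans hi)
        refine ⟨M.wordG (ws.getD (ent E i / m % 4) []) * n, mul_mem (hw _ ?_) hn, ?_⟩
        · rw [List.getD_eq_getElem _ _ hl]; exact List.getElem_mem hl
        · rw [map_mul, Equiv.Perm.mul_apply, M.word_apply, e]; exact hx
  let F : Fin len → Fin 1408 := fun i => M.ρ (Classical.choose (hreach i i.isLt)) b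
  have hF : Function.Injective F := by
    intro i j e
    have ei := (Classical.choose_spec (hreach i i.isLt)).2
    have ej := (Classical.choose_spec (hreach j j.isLt)).2
    have e' : ent E i.val / (4 * m) = ent E j.val / (4 * m) :=
      ei.symm.trans ((congrArg Fin.val e).trans ej)
    refine Fin.ext ?_
    rw [← (hs i i.isLt).1, ← (hs j j.isLt).1, e']
  have hsub : Set.range F ⊆ {p : Fin 1408 | ∃ n ∈ S, M.ρ n b = p} := by
    rintro _ ⟨i, rfl⟩
    exact ⟨_, (Classical.choose_spec (hreach i i.isLt)).1, rfl⟩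
  refine le_trans ?_ (Set.ncard_le_ncard hsub (Set.toFinite _))
  rw [Set.ncard_range_of_injective hF, Nat.card_fin]

theorem orbit_mul_le (S : Subgroup N) [Finite S] (b : Fin 1408) (T : Subgroup N)
    (hT : ∀ n ∈ T, n ∈ S ∧ M.ρ n b = b) :
    Set.ncard {p : Fin 1408 | ∃ n ∈ S, M.ρ n b = p} * Nat.card T ≤ Nat.card S := by
  letI : MulAction S (Fin 1408) := MulAction.compHom _ (M.ρ.comp S.subtype)
  have hset : {p : Fin 1408 | ∃ n ∈ S, M.ρ n b = p} = MulAction.orbit S b := by
    ext p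
    exact ⟨fun ⟨n, hn, e⟩ => ⟨⟨n, hn⟩, e⟩, fun ⟨⟨n, hn⟩, e⟩ => ⟨n, hn, e⟩⟩
  rw [hset, ← Nat.card_coe_set_eq,
    ← Nat.card_congr (MulAction.orbitProdStabilizerEquivGroup S b), Nat.card_prod]
  refine Nat.mul_le_mul_left _ ?_
  exact Nat.card_le_card_of_injective
    (fun n : T => (⟨⟨n.1, (hT _ n.2).1⟩, (hT _ n.2).2⟩ : MulAction.stabilizer S b))
    fun a c e => Subtype.ext (congrArg (fun w : MulAction.stabilizer S b => ((w : S) : N)) e)

/-- The subgroup generated by `y` and its conjugate under `x`. -/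
def hub : Subgroup N := Subgroup.closure {M.y, M.x⁻¹ * M.y * M.x}

/-- The stabiliser of the first point. -/
def stab0 : Subgroup N where
  carrier := {n | M.ρ n 0 = 0}
  one_mem' := by simp
  mul_mem' {a b} ha hb := by
    simp only [Set.mem_setOf_eq, map_mul, Equiv.Perm.mul_apply] at ha hb ⊢
    rw [hb, ha]
  inv_mem' {a} ha := by
    simp only [Set.mem_setOf_eq, map_inv] at ha ⊢
    exact Equiv.Perm.inv_eq_iff_eq.2 ha.symm

theorem hub_le : hub M ≤ stab0 M := by
  obtain ⟨-, -, -, -, -, h2, hw, -⟩ := fix_ok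
  refine (Subgroup.closure_le _).2 ?_
  have h : ∀ w : List ℕ, applyW w 0 = 0 → M.wordG w ∈ stab0 M := fun w hw => Fin.ext (by
    rw [M.word_apply]; exact hw)
  rintro n (rfl | rfl)
  · simpa [Model.wordG, Model.letterG] using h _ h2
  · simpa [Model.wordG, Model.letterG, mul_assoc] using h _ hw

theorem lettA_mem : ∀ w ∈ lettA, M.wordG w ∈ hub M := by
  have hy : M.y ∈ hub M := Subgroup.subset_closure (by simp)
  have hw : M.x⁻¹ * M.y * M.x ∈ hub M := Subgroup.subset_closure (by simp)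
  intro w h
  simp only [lettA, List.mem_cons, List.not_mem_nil, or_false] at h
  rcases h with rfl | rfl | rfl | rfl
  · simpa [Model.wordG, Model.letterG] using hy
  · simpa [Model.wordG, Model.letterG, mul_assoc] using hw
  · simpa [Model.wordG, Model.letterG] using inv_mem hy
  · simpa [Model.wordG, Model.letterG, mul_assoc] using inv_mem hw

theorem wordG_append (v w : List ℕ) : M.wordG (v ++ w) = M.wordG v * M.wordG w := by
  simp [Model.wordG]

theorem lettB_mem : ∀ w ∈ lettB ++ [[3, 1, 3, 0, 3, 1, 3, 0]], M.wordG w ∈ hub M := by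
  have h := lettA_mem M
  have hy := h [2] (by simp [lettA])
  have hw := h [1, 2, 0] (by simp [lettA])
  have hy' := h [3] (by simp [lettA])
  have hw' := h [1, 3, 0] (by simp [lettA])
  intro w hmem
  simp only [lettB, List.cons_append, List.nil_append, List.mem_cons, List.not_mem_nil, or_false] at hmem
  rcases hmem with rfl | rfl | rfl
  · rw [show ([1, 3, 0, 3, 1, 2, 0, 1, 2, 0, 2, 2, 1, 2, 0] : List ℕ) =
      [1, 3, 0] ++ [3] ++ [1, 2, 0] ++ [1, 2, 0] ++ [2] ++ [2] ++ [1, 2, 0] from rfl]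
    simp only [wordG_append]
    exact mul_mem (mul_mem (mul_mem (mul_mem (mul_mem (mul_mem hw' hy') hw) hw) hy) hy) hw
  · rw [show ([1, 3, 0, 1, 3, 0, 3, 1, 2, 0, 1, 2, 0, 2, 1, 2, 0] : List ℕ) =
      [1, 3, 0] ++ [1, 3, 0] ++ [3] ++ [1, 2, 0] ++ [1, 2, 0] ++ [2] ++ [1, 2, 0] from rfl]
    simp only [wordG_append]
    exact mul_mem (mul_mem (mul_mem (mul_mem (mul_mem (mul_mem hw' hw') hy') hw) hw) hy) hw
  · rw [show ([3, 1, 3, 0, 3, 1, 3, 0] : List ℕ) = [3] ++ [1, 3, 0] ++ [3] ++ [1, 3, 0] from rfl]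
    simp only [wordG_append]
    exact mul_mem (mul_mem (mul_mem hy' hw') hy') hw'

/-- The two generators generate the stabiliser, of order 126000. -/
theorem hub_eq (hcard : Nat.card N = 177408000) :
    hub M = stab0 M ∧ Nat.card (hub M) = 126000 := by
  haveI : Finite N := Nat.finite_of_card_ne_zero (by rw [hcard]; norm_num)
  obtain ⟨ha, hb, hc, hd, he, -, -, -⟩ := fix_ok
  let T₁ : Subgroup N := Subgroup.closure {n | ∃ w ∈ lettB ++ [[3, 1, 3, 0, 3, 1, 3, 0]], M.wordG w = n}
  let g := M.wordG [3, 1, 3, 0, 3, 1, 3, 0]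
  have hge2 : 2 ≤ Nat.card (Subgroup.zpowers g) := by
    have hg : g ≠ 1 := fun hg => by
      rw [List.all_eq_false] at he
      obtain ⟨i, hi, hne⟩ := he
      have e := M.word_apply [3, 1, 3, 0, 3, 1, 3, 0] ⟨i, List.mem_range.1 hi⟩
      rw [show M.wordG [3, 1, 3, 0, 3, 1, 3, 0] = 1 from hg, map_one, Equiv.Perm.one_apply] at e
      exact hne (beq_iff_eq.2 e.symm)
    rw [Nat.card_zpowers]
    have h0 := orderOf_pos g
    have h1 : orderOf g ≠ 1 := fun h => hg (orderOf_eq_one_iff.1 h)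
    omega
  have hT₁ : T₁ ≤ hub M := (Subgroup.closure_le _).2 (by
    rintro _ ⟨w, hw, rfl⟩; exact lettB_mem M w hw)
  have hmem : ∀ w ∈ lettB ++ [[3, 1, 3, 0, 3, 1, 3, 0]], M.wordG w ∈ T₁ :=
    fun w hw => Subgroup.subset_closure ⟨w, hw, rfl⟩
  let b1 : Fin 1408 := ⟨196, by norm_num⟩
  let b2 : Fin 1408 := ⟨16, by norm_num⟩
  have hf1 : ∀ n ∈ T₁, M.ρ n b1 = b1 := by
    intro n hn
    induction hn using Subgroup.closure_induction with
    | mem a h =>
      obtain ⟨w, hw, rfl⟩ := h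
      refine Fin.ext ((M.word_apply w b1).trans ?_)
      simp only [lettB, List.cons_append, List.nil_append, List.mem_cons, List.not_mem_nil, or_false] at hw
      rcases hw with rfl | rfl | rfl
      · exact ha
      · exact hb
      · exact hc
    | one => simp
    | mul a c _ _ p q => rw [map_mul, Equiv.Perm.mul_apply, q, p]
    | inv a _ p => rw [map_inv]; exact Equiv.Perm.inv_eq_iff_eq.2 p.symm
  have hf2 : ∀ n ∈ Subgroup.zpowers g, n ∈ T₁ ∧ M.ρ n b2 = b2 := by
    intro n hn
    have hg1 : g ∈ T₁ := hmem _ (by simp)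
    refine ⟨Subgroup.zpowers_le.2 hg1 hn, ?_⟩
    obtain ⟨k, rfl⟩ := hn
    have hg2 : M.ρ g b2 = b2 := Fin.ext ((M.word_apply _ b2).trans hd)
    show M.ρ (g ^ k) b2 = b2
    rw [map_zpow]
    exact Equiv.Perm.zpow_apply_eq_self_of_apply_eq_self hg2 k
  have o1 := tree_orbit M (show 0 < 1024 by norm_num) (hub M) (lettA_mem M) (b := b1) treeA_ok
  have o2 := tree_orbit M (show 0 < 1024 by norm_num) T₁
    (fun w hw => hmem w (List.mem_append_left _ hw)) (b := b2) treeB_ok
  have l2 : 250 ≤ Nat.card T₁ := by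
    refine le_trans ?_ (orbit_mul_le M T₁ b2 (Subgroup.zpowers g) hf2)
    exact le_trans (by norm_num) (Nat.mul_le_mul o2 hge2)
  have l1 : 126000 ≤ Nat.card (hub M) := by
    refine le_trans ?_ (orbit_mul_le M (hub M) b1 T₁ fun n hn => ⟨hT₁ hn, hf1 n hn⟩)
    exact le_trans (by norm_num) (Nat.mul_le_mul o1 l2)
  have l0 : Nat.card (stab0 M) ≤ 126000 := by
    have o0 := tree_orbit M (show 0 < 2048 by norm_num) (⊤ : Subgroup N)
      (fun w _ => Subgroup.mem_top _) (b := (0 : Fin 1408)) treeC_ok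
    have h := orbit_mul_le M (⊤ : Subgroup N) 0 (stab0 M) fun n hn => ⟨Subgroup.mem_top _, hn⟩
    rw [Nat.card_congr Subgroup.topEquiv.toEquiv, hcard] at h
    have := le_trans (Nat.mul_le_mul_right (Nat.card (stab0 M)) o0) h
    omega
  have heq : hub M = stab0 M :=
    Subgroup.eq_of_le_of_card_ge (hub_le M) (le_trans l0 l1)
  exact ⟨heq, le_antisymm (heq ▸ l0) l1⟩

/-- At most four points are fixed by both generators. -/
theorem fixed_lt_four (i : Fin 1408) (h : ∀ n ∈ hub M, M.ρ n i = i) : i.val < 4 := by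
  obtain ⟨-, -, -, -, -, -, -, hall⟩ := fix_ok
  rw [List.all_eq_true] at hall
  have e := hall i.val (List.mem_range.2 i.isLt)
  have e1 : applyW [2] i.val = i.val := by
    rw [← M.word_apply, h _ (lettA_mem M _ (by simp [lettA]))]
  have e2 : applyW [1, 2, 0] i.val = i.val := by
    rw [← M.word_apply, h _ (lettA_mem M _ (by simp [lettA]))]
  simpa [e1, e2] using e

end H99.HN
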