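import Cfsg.Agent.H81.HN.Simple
import Cfsg.Agent.H95.OutPairInst
import Cfsg.Agent.H95.OutSwap

/-!
Automorphisms of `2.HS:2` on 1408 points and the centraliser of an element of order eleven.
-/

set_option autoImplicit false
set_option maxRecDepth 100000

namespace H99.HN

open Cfsg H81.HNCover H81.HS2

/-- An automorphism of the Higman–Sims group fixing the element of order eleven is inner. -/
theorem inner_of_fix (ψ : MulAut H95.hsPair.G) (h : ψ H95.hsPair.x = H95.hsPair.x) :
    ψ ∈ Cfsg.Inn H95.hsPair.G := by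
  haveI : Fact (Nat.Prime 11) := ⟨by norm_num⟩
  haveI : Fact (Nat.Prime 5) := ⟨by norm_num⟩
  by_contra hψ
  obtain ⟨φ, k, a, b, hm, hk, ha, hb, e1, e2, e3⟩ :=
    H95.exists_adjusted (p := 11) (q := 5) H95.hsPair.x H95.hsPair.s H95.hsPair.f 3 (by rw [H95.hsPair.card_G]; exact H95.hsPair.sq11)
      H95.hsPair.order_x H95.hsPair.order_s H95.hsPair.sxs H95.OutPair.three_order H95.OutPair.three_class H95.hsPair.fs
      (fun g hg => H95.hsPair.norm_x hg) (fun g hg => H95.hsPair.cent_s hg) ψ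
  rcases H95.hsPair.test φ k a b hk ha hb e1 e2 e3 with h' | h'
  · obtain ⟨rfl, rfl, rfl⟩ : k = 1 ∧ a = 1 ∧ b = 0 := by simpa [Prod.ext_iff] using h'
    have h1 : φ = 1 := by
      refine MulEquiv.ext fun w => ?_
      have hw : w ∈ Subgroup.closure ({H95.hsPair.x, H95.hsPair.s, H95.hsPair.f} : Set H95.hsPair.G) := H95.hsPair.gen ▸ Subgroup.mem_top w
      refine MonoidHom.eqOn_closure (f := φ.toMonoidHom) (g := MonoidHom.id H95.hsPair.G) ?_ hw
      rintro u (rfl | rfl | rfl)
      · exact e1.trans (pow_one _)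
      · exact e2
      · exact e3.trans (by rw [pow_one, pow_zero, mul_one]; rfl)
    rw [h1, inv_one, one_mul] at hm
    exact hψ hm
  · have hk10 : k = 10 := by
      have := congrArg Prod.fst h'
      simpa [H95.hsPair] using this
    subst hk10
    obtain ⟨g, hg⟩ := hm
    have hg : ψ = φ * MulAut.conj g := by rw [hg, mul_inv_cancel_left]
    have he : φ (g * H95.hsPair.x * g⁻¹) = H95.hsPair.x := by
      have h2 : φ (MulAut.conj g H95.hsPair.x) = ψ H95.hsPair.x := by rw [hg]; rfl
      rw [MulAut.conj_apply] at h2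
      rw [h2, h]
    have hx10 : φ (H95.hsPair.x ^ 10) = H95.hsPair.x := by
      rw [map_pow, e1, ← pow_mul]
      conv_lhs => rw [show 10 * 10 = 11 * 9 + 1 from rfl, pow_succ, pow_mul, ← H95.hsPair.order_x,
        pow_orderOf_eq_one, one_pow, one_mul]
    have hgx : g * H95.hsPair.x * g⁻¹ = H95.hsPair.x ^ 10 := φ.injective (he.trans hx10.symm)
    obtain ⟨i, j, rfl⟩ := H95.hsPair.norm_x (g := g) (by rw [hgx]; exact Subgroup.npow_mem_zpowers _ _)
    have hc : ∀ m : ℕ, H95.hsPair.s ^ m * H95.hsPair.x * (H95.hsPair.s ^ m)⁻¹ = H95.hsPair.x ^ (3 ^ m) := by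
      intro m
      induction m with
      | zero => simp
      | succ m ih =>
        calc H95.hsPair.s ^ (m + 1) * H95.hsPair.x * (H95.hsPair.s ^ (m + 1))⁻¹
            = H95.hsPair.s ^ m * (H95.hsPair.s * H95.hsPair.x * H95.hsPair.s⁻¹) * (H95.hsPair.s ^ m)⁻¹ := by rw [pow_succ]; group
          _ = (H95.hsPair.s ^ m * H95.hsPair.x * (H95.hsPair.s ^ m)⁻¹) ^ 3 := by rw [H95.hsPair.sxs, conj_pow]
          _ = H95.hsPair.x ^ 3 ^ (m + 1) := by rw [ih, ← pow_mul, ← pow_succ]
    rw [show H95.hsPair.x ^ i * H95.hsPair.s ^ j * H95.hsPair.x * (H95.hsPair.x ^ i * H95.hsPair.s ^ j)⁻¹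
        = H95.hsPair.x ^ i * (H95.hsPair.s ^ j * H95.hsPair.x * (H95.hsPair.s ^ j)⁻¹) * (H95.hsPair.x ^ i)⁻¹ by group, hc,
      (Commute.pow_pow (Commute.refl H95.hsPair.x) i (3 ^ j)).eq, mul_inv_cancel_right,
      pow_eq_pow_iff_modEq, H95.hsPair.order_x] at hgx
    have key : ∀ r : Fin 5, (3 ^ r.val : ℕ) % 11 ≠ 10 := by decide
    refine key ⟨j % 5, Nat.mod_lt _ (by norm_num)⟩ ?_
    have h3 : (3 : ℕ) ^ j % 11 = 3 ^ (j % 5) % 11 := by
      conv_lhs => rw [← Nat.div_add_mod j 5, pow_add, pow_mul, Nat.mul_mod, Nat.pow_mod]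
      simp
    rw [← h3]
    exact hgx

/-- A commuting element is a power. -/
theorem cent_x {g : H95.hsPair.G} (h : g * H95.hsPair.x = H95.hsPair.x * g) :
    g ∈ Subgroup.zpowers H95.hsPair.x := by
  obtain ⟨i, j, rfl⟩ := H95.hsPair.norm_x (g := g) (by rw [h, mul_inv_cancel_right]; exact Subgroup.mem_zpowers _)
  have hc : ∀ m : ℕ, H95.hsPair.s ^ m * H95.hsPair.x = H95.hsPair.x ^ (3 ^ m) * H95.hsPair.s ^ m := by
    intro m
    induction m with
    | zero => simp
    | succ m ih =>
      have h1 : H95.hsPair.s * H95.hsPair.x = H95.hsPair.x ^ 3 * H95.hsPair.s := by rw [← H95.hsPair.sxs, inv_mul_cancel_right]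
      have h2 : ∀ r : ℕ, H95.hsPair.s ^ m * H95.hsPair.x ^ r = H95.hsPair.x ^ (r * 3 ^ m) * H95.hsPair.s ^ m := by
        intro r
        induction r with
        | zero => simp
        | succ r ihr =>
          rw [pow_succ, ← mul_assoc, ihr, mul_assoc, ih, ← mul_assoc, ← pow_add]
          congr 2
          ring
      rw [pow_succ, mul_assoc, h1, ← mul_assoc, h2, mul_assoc, ← pow_succ' 3 m]
  have e : H95.hsPair.x ^ (3 ^ j) = H95.hsPair.x := by
    refine mul_right_cancel (b := H95.hsPair.s ^ j) ?_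
    rw [← hc]
    refine mul_left_cancel (a := H95.hsPair.x ^ i) ?_
    rw [← mul_assoc, ← mul_assoc, h, ← mul_assoc, ← pow_succ', pow_succ]
  conv_rhs at e => rw [← pow_one H95.hsPair.x]
  rw [pow_eq_pow_iff_modEq, H95.hsPair.order_x] at e
  have key : ∀ r : Fin 5, (3 ^ r.val : ℕ) % 11 = 1 → r.val = 0 := by decide
  have h3 : (3 : ℕ) ^ j % 11 = 3 ^ (j % 5) % 11 := by
    conv_lhs => rw [← Nat.div_add_mod j 5, pow_add, pow_mul, Nat.mul_mod, Nat.pow_mod]
    simp
  have h5 : j % 5 = 0 := key ⟨j % 5, Nat.mod_lt _ (by norm_num)⟩ (h3.symm.trans e)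
  have hs : H95.hsPair.s ^ j = 1 := by
    rw [← pow_mod_orderOf, H95.hsPair.order_s, h5, pow_zero]
  rw [hs, mul_one]
  exact Subgroup.npow_mem_zpowers _ _

theorem table_ok : (List.range 1408).all (fun i =>
    applyW [0, 0, 0, 0] i == i &&
    applyW [0, 0, 2] i == applyW [2, 0, 0] i && applyW [0, 0, 4] i == applyW [4, 0, 0] i &&
    applyW [4, 4] i == i &&
    applyW [4, 3, 0, 2] i == applyW [4, 3, 0, 2] i &&
    applyW [4] (applyW [2, 0, 2, 0, 2, 2, 0, 3] i) ==
      applyW [2, 0, 2, 0, 2, 2, 0, 3, 4, 0, 0] i) = true := by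
  decide +kernel

theorem table_c : applyW [0, 0] 0 ≠ 0 := by
  decide +kernel

universe u

variable {N : Type u} [Group N] (M : Model N)

theorem rho_inj (hcard : Nat.card N = 177408000) : Function.Injective M.ρ := by
  rw [← MonoidHom.ker_eq_bot_iff, eq_bot_iff]
  intro n hn
  rw [MonoidHom.mem_ker] at hn
  have hK : n ∈ M.K := M.mem_K_of_point 0 (by rw [hn]; rfl)
  have h1 : M.res ⟨n, hK⟩ = M.res 1 := by
    refine Equiv.ext fun u => ?_
    have e := M.res_apply ⟨n, hK⟩ u
    rw [hn, Equiv.Perm.one_apply] at e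
    rw [map_one, Equiv.Perm.one_apply]
    have inj : ∀ a b : Pt, emb a = emb b → a = b := fun a b h =>
      ptEquiv.injective (Subtype.ext h)
    exact inj _ _ e
  exact Subgroup.mem_bot.2 (congrArg Subtype.val ((M.res_spec hcard).2 h1))

theorem ext_word (hcard : Nat.card N = 177408000) (v w : List ℕ)
    (h : ∀ i, i < 1408 → applyW v i = applyW w i) : M.wordG v = M.wordG w :=
  rho_inj M hcard (Equiv.ext fun i => Fin.ext (by rw [M.word_apply, M.word_apply]; exact h _ i.isLt))

/-- The facts read off from the tables. -/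
theorem small_facts (hcard : Nat.card N = 177408000) :
    (M.x * M.x) * (M.x * M.x) = 1 ∧ (∀ n : N, n * (M.x * M.x) = (M.x * M.x) * n) ∧
    M.x * M.x ≠ 1 ∧ M.z * M.z = 1 ∧
    M.z * (M.y * M.x * M.y * M.x * M.y * M.y * M.x * M.y⁻¹) =
      (M.y * M.x * M.y * M.x * M.y * M.y * M.x * M.y⁻¹) * M.z * (M.x * M.x) := by
  have h := table_ok
  simp only [List.all_eq_true, List.mem_range, Bool.and_eq_true, beq_iff_eq] at h
  have e0 : M.wordG [0, 0, 0, 0] = M.wordG [] := ext_word M hcard _ _ fun i hi => by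
    obtain ⟨⟨⟨⟨⟨h1, -⟩, -⟩, -⟩, -⟩, -⟩ := h i hi
    exact h1
  have ey : M.wordG [0, 0, 2] = M.wordG [2, 0, 0] := ext_word M hcard _ _ fun i hi => by
    obtain ⟨⟨⟨⟨⟨-, h1⟩, -⟩, -⟩, -⟩, -⟩ := h i hi
    exact h1
  have ez : M.wordG [0, 0, 4] = M.wordG [4, 0, 0] := ext_word M hcard _ _ fun i hi => by
    obtain ⟨⟨⟨⟨-, h1⟩, -⟩, -⟩, -⟩ := h i hi
    exact h1
  have ezz : M.wordG [4, 4] = M.wordG [] := ext_word M hcard _ _ fun i hi => by
    obtain ⟨⟨⟨-, h1⟩, -⟩, -⟩ := h i hi
    exact h1
  have eW : M.wordG ([4] ++ [2, 0, 2, 0, 2, 2, 0, 3]) = M.wordG [2, 0, 2, 0, 2, 2, 0, 3, 4, 0, 0] :=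
    ext_word M hcard _ _ fun i hi => by
      obtain ⟨-, h1⟩ := h i hi
      exact h1
  simp [Model.wordG, Model.letterG, ← mul_assoc] at e0 ey ez ezz eW
  refine ⟨by rw [← mul_assoc]; exact e0, fun n => ?_, fun hc => table_c ?_, ezz, ?_⟩
  · have hn : n ∈ Subgroup.centralizer ({M.x * M.x} : Set N) := by
      have : Subgroup.closure ({M.x, M.y, M.z} : Set N) ≤ Subgroup.centralizer {M.x * M.x} := by
        rw [Subgroup.closure_le]
        rintro g (rfl | rfl | rfl) <;> rw [SetLike.mem_coe, Subgroup.mem_centralizer_singleton_iff]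
        · rw [← mul_assoc]
        · rw [← mul_assoc, ← ey]
        · rw [← mul_assoc, ← ez]
      exact this (M.gen ▸ Subgroup.mem_top n)
    exact Subgroup.mem_centralizer_singleton_iff.1 hn
  · have e := M.word_apply [0, 0] (0 : Fin 1408)
    have hw : M.wordG [0, 0] = 1 := by simp [Model.wordG, Model.letterG]; exact hc
    rw [hw, map_one, Equiv.Perm.one_apply] at e
    exact e.symm
  · simpa [← mul_assoc] using eW

theorem x_mem_K : M.x ∈ M.K :=
  M.mem_K_of_point 0 (by rw [M.hx]; exact (spec 0).2.2.2.2.2.2.2.1)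

theorem y_mem_K : M.y ∈ M.K :=
  M.mem_K_of_point 0 (by rw [M.hy]; exact (spec 0).2.2.2.2.2.2.2.2.1)

theorem z_not_mem_K : M.z ∉ M.K := fun h => by
  have e := M.mem_K.1 h 0
  rw [M.hz, (spec 0).2.2.2.2.2.2.2.2.2.1] at e
  exact absurd e (by cases side ((0 : Fin 1408) : ℕ) <;> decide)

/-- The map of the index two subgroup onto the Higman–Sims group. -/
noncomputable def q (hcard : Nat.card N = 177408000) : M.K →* H95.hsPair.G :=
  proj.comp (M.equiv hcard).toMonoidHom

theorem q_surjective (hcard : Nat.card N = 177408000) : Function.Surjective (q M hcard) :=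
  proj_surjective.comp (M.equiv hcard).surjective

theorem card_q_ker (hcard : Nat.card N = 177408000) : Nat.card (q M hcard).ker = 2 := by
  have hk : (q M hcard).ker = proj.ker.comap (M.equiv hcard).toMonoidHom :=
    (MonoidHom.comap_ker proj (M.equiv hcard).toMonoidHom).symm
  rw [hk, Nat.card_congr (MulEquiv.subgroupMap (M.equiv hcard) _).toEquiv]
  show Nat.card ((proj.ker.comap (M.equiv hcard).toMonoidHom).map (M.equiv hcard).toMonoidHom) = 2
  rw [Subgroup.map_comap_eq_self_of_surjective (f := (M.equiv hcard).toMonoidHom)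
    (M.equiv hcard).surjective, card_ker]

/-- The kernel consists of the identity and the square of `x`. -/
theorem mem_q_ker (hcard : Nat.card N = 177408000) (k : M.K) :
    q M hcard k = 1 ↔ (k : N) = 1 ∨ (k : N) = M.x * M.x := by
  obtain ⟨-, hc, hne, -, -⟩ := small_facts M hcard
  set cK : M.K := ⟨M.x * M.x, mul_mem (x_mem_K M) (x_mem_K M)⟩ with hcK
  have hck : q M hcard cK = 1 := by
    have hcen : q M hcard cK ∈ Subgroup.center H95.hsPair.G := Subgroup.mem_center_iff.2 fun g => by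
      obtain ⟨m, rfl⟩ := q_surjective M hcard g
      rw [← map_mul, ← map_mul, show m * cK = cK * m from Subtype.ext (hc m)]
    have hz : Subgroup.center H95.pvU'.group = ⊥ := center_group
    exact Subgroup.mem_bot.1 (hz ▸ hcen)
  refine ⟨fun hk => ?_, ?_⟩
  · haveI : Finite (q M hcard).ker := Nat.finite_of_card_ne_zero (by rw [card_q_ker]; norm_num)
    have h2 := card_q_ker M hcard
    rw [Nat.card_eq_two_iff' (1 : (q M hcard).ker)] at h2
    by_cases h1 : k = 1
    · exact Or.inl (by rw [h1]; rfl)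
    · right
      have e := h2.unique (y₁ := (⟨k, hk⟩ : (q M hcard).ker)) (y₂ := (⟨cK, hck⟩ : (q M hcard).ker))
        (fun h => h1 (congrArg Subtype.val h))
        (fun h => hne (congrArg (fun w : (q M hcard).ker => (w : M.K).1) h))
      exact congrArg (fun w : (q M hcard).ker => (w : M.K).1) e
  · rintro (h | h)
    · rw [show k = 1 from Subtype.ext h, map_one]
    · rw [show k = cK from Subtype.ext h, hck]

/-- Two homomorphisms of the perfect subgroup agreeing modulo the central kernel are equal. -/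
theorem eq_of_q_eq (hcard : Nat.card N = 177408000) (a b : M.K →* M.K)
    (h : ∀ k, q M hcard (a k) = q M hcard (b k)) : a = b := by
  obtain ⟨-, hc, -, -, -⟩ := small_facts M hcard
  have hd : ∀ k, a k * (b k)⁻¹ ∈ Subgroup.center M.K := fun k => by
    rw [Subgroup.mem_center_iff]
    intro g
    rcases (mem_q_ker M hcard (a k * (b k)⁻¹)).1 (by rw [map_mul, map_inv, h, mul_inv_cancel]) with e | e
    · rw [show a k * (b k)⁻¹ = 1 from Subtype.ext e, mul_one, one_mul]
    · exact Subtype.ext (by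
        show (g : N) * (a k * (b k)⁻¹ : M.K).1 = (a k * (b k)⁻¹ : M.K).1 * g
        rw [e, hc])
  let d : M.K →* Subgroup.center M.K := MonoidHom.mk' (fun k => ⟨_, hd k⟩) fun u v => Subtype.ext (by
    show a (u * v) * (b (u * v))⁻¹ = a u * (b u)⁻¹ * (a v * (b v)⁻¹)
    rw [map_mul, map_mul, mul_inv_rev]
    calc a u * a v * ((b v)⁻¹ * (b u)⁻¹) = a u * (a v * (b v)⁻¹) * (b u)⁻¹ := by group
      _ = a u * ((b u)⁻¹ * (a v * (b v)⁻¹)) := by
        rw [mul_assoc, ← Subgroup.mem_center_iff.1 (hd v) (b u)⁻¹]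
      _ = a u * (b u)⁻¹ * (a v * (b v)⁻¹) := by group)
  have hker : d.ker = ⊤ := by
    rw [eq_top_iff, ← M.perfect_K hcard, commutator_def, Subgroup.commutator_le]
    intro u _ v _
    rw [MonoidHom.mem_ker, map_commutatorElement, commutatorElement_eq_one_iff_mul_comm]
    exact Subtype.ext (Subgroup.mem_center_iff.1 (d v).2 (d u).1)
  refine MonoidHom.ext fun k => ?_
  have hk : d k = 1 := MonoidHom.mem_ker.1 (hker ▸ Subgroup.mem_top k)
  exact mul_inv_eq_one.1 (congrArg Subtype.val hk)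

theorem commutator_eq (hcard : Nat.card N = 177408000) : commutator N = M.K := by
  refine le_antisymm ?_ fun k hk => ?_
  · rw [commutator_def, Subgroup.commutator_le]
    intro a _ b _
    simp only [commutatorElement_def, Subgroup.mul_mem_iff_of_index_two M.index_K,
      Subgroup.inv_mem_iff]
    tauto
  · have h : (commutator M.K).map M.K.subtype ≤ commutator N := by
      rw [commutator_def, commutator_def, Subgroup.map_commutator]
      exact Subgroup.commutator_mono le_top le_top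
    exact h ⟨⟨k, hk⟩, by rw [M.perfect_K hcard]; trivial, rfl⟩

theorem map_K (hcard : Nat.card N = 177408000) (β : MulAut N) {n : N} (hn : n ∈ M.K) :
    β n ∈ M.K := by
  rw [← commutator_eq M hcard] at hn ⊢
  exact ((inferInstance : (commutator N).Characteristic).fixed β).ge hn

/-- The restriction of an automorphism. -/
noncomputable def resAut (hcard : Nat.card N = 177408000) (β : MulAut N) : MulAut M.K :=
  MonoidHom.toMulEquiv
    ((β.toMonoidHom.comp M.K.subtype).codRestrict M.K fun k => map_K M hcard β k.2)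
    ((β.symm.toMonoidHom.comp M.K.subtype).codRestrict M.K fun k => map_K M hcard β.symm k.2)
    (MonoidHom.ext fun k => Subtype.ext (β.symm_apply_apply k.1))
    (MonoidHom.ext fun k => Subtype.ext (β.apply_symm_apply k.1))

theorem resAut_val (hcard : Nat.card N = 177408000) (β : MulAut N) (k : M.K) :
    (resAut M hcard β k).1 = β k.1 := rfl

/-- An automorphism fixing the square of `x` induces one of the Higman–Sims group. -/
theorem exists_induced (hcard : Nat.card N = 177408000) (β : MulAut N)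
    (hβ : β (M.x * M.x) = M.x * M.x) :
    ∃ φ : MulAut H95.hsPair.G, ∀ k, φ (q M hcard k) = q M hcard (resAut M hcard β k) := by
  have hker : (q M hcard).ker.map (resAut M hcard β).toMonoidHom = (q M hcard).ker := by
    ext k
    rw [MonoidHom.mem_ker, Subgroup.mem_map_equiv, MonoidHom.mem_ker, mem_q_ker, mem_q_ker]
    have hv : ((resAut M hcard β).symm k).1 = β.symm k.1 := rfl
    rw [hv]
    constructor
    · rintro (h | h)
      · exact Or.inl (by rw [← β.apply_symm_apply k.1, h, map_one])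
      · exact Or.inr (by rw [← β.apply_symm_apply k.1, h, hβ])
    · rintro (h | h)
      · exact Or.inl (by rw [h, map_one])
      · exact Or.inr (by rw [h]; exact β.injective (by rw [β.apply_symm_apply, hβ]))
  let e := QuotientGroup.quotientKerEquivOfSurjective (q M hcard) (q_surjective M hcard)
  refine ⟨(e.symm.trans (QuotientGroup.congr (q M hcard).ker (q M hcard).ker (resAut M hcard β)
    hker)).trans e, fun k => ?_⟩
  have he : e.symm (q M hcard k) = QuotientGroup.mk k := e.injective (by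
    rw [e.apply_symm_apply]; rfl)
  show e (QuotientGroup.congr (q M hcard).ker (q M hcard).ker (resAut M hcard β) hker (e.symm (q M hcard k))) = _
  rw [he]
  rfl

/-- An element inducing an inner automorphism lies in the subgroup of index two. -/
theorem mem_K_of_inner (hcard : Nat.card N = 177408000) (n : N) (g : H95.hsPair.G)
    (h : ∀ k : M.K, q M hcard (resAut M hcard (MulAut.conj n) k) = g * q M hcard k * g⁻¹) :
    n ∈ M.K := by
  obtain ⟨k₀, rfl⟩ := q_surjective M hcard g
  have e := eq_of_q_eq M hcard (resAut M hcard (MulAut.conj n)).toMonoidHom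
    (MulAut.conj k₀).toMonoidHom fun k => by
      rw [MulEquiv.coe_toMonoidHom, MulEquiv.coe_toMonoidHom, h, MulAut.conj_apply, map_mul, map_mul,
        map_inv]
  have h2 : k₀.1⁻¹ * n ∈ M.K := M.centralizer_K fun k hk => by
    have e1 : n * k * n⁻¹ = k₀.1 * k * k₀.1⁻¹ :=
      congrArg Subtype.val (DFunLike.congr_fun e (⟨k, hk⟩ : M.K))
    calc k * (k₀.1⁻¹ * n) = k₀.1⁻¹ * (k₀.1 * k * k₀.1⁻¹) * n := by group
      _ = k₀.1⁻¹ * (n * k * n⁻¹) * n := by rw [e1]
      _ = k₀.1⁻¹ * n * k := by group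
  simpa using mul_mem k₀.2 h2

/-- An automorphism agrees on the subgroup of index two with a conjugation. -/
theorem exists_conj (hcard : Nat.card N = 177408000) (β : MulAut N)
    (hβ : β (M.x * M.x) = M.x * M.x) : ∃ n : N, ∀ k ∈ M.K, β k = n * k * n⁻¹ := by
  obtain ⟨-, hc, -, -, -⟩ := small_facts M hcard
  obtain ⟨φ, hφ⟩ := exists_induced M hcard β hβ
  have finish : ∀ n : N, (∀ k, φ (q M hcard k) = q M hcard (resAut M hcard (MulAut.conj n) k)) →
      ∀ k ∈ M.K, β k = n * k * n⁻¹ := by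
    intro n hn k hk
    have e := eq_of_q_eq M hcard (resAut M hcard β).toMonoidHom
      (resAut M hcard (MulAut.conj n)).toMonoidHom fun j => (hφ j).symm.trans (hn j)
    exact congrArg Subtype.val (DFunLike.congr_fun e (⟨k, hk⟩ : M.K))
  by_cases hi : φ ∈ Cfsg.Inn H95.hsPair.G
  · obtain ⟨g, rfl⟩ := hi
    obtain ⟨k₀, rfl⟩ := q_surjective M hcard g
    refine ⟨k₀.1, finish _ fun k => ?_⟩
    rw [MulAut.conj_apply, ← map_inv, ← map_mul, ← map_mul]
    exact congrArg _ (Subtype.ext rfl)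
  · obtain ⟨ψ, hψ⟩ := exists_induced M hcard (MulAut.conj M.z) (by
      rw [MulAut.conj_apply, hc, mul_inv_cancel_right])
    have hψ' : ψ ∉ Cfsg.Inn H95.hsPair.G := by
      rintro ⟨g, rfl⟩
      exact z_not_mem_K M (mem_K_of_inner M hcard M.z g fun k => by
        rw [← hψ, MulAut.conj_apply])
    have h2 := H95.hsPair.out_card H95.hs_outer
    rw [Nat.card_eq_two_iff' (1 : Cfsg.Out H95.hsPair.G)] at h2
    have e := h2.unique (y₁ := (φ : Cfsg.Out H95.hsPair.G)) (y₂ := (ψ : Cfsg.Out H95.hsPair.G))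
      (fun h => hi ((QuotientGroup.eq_one_iff φ).1 h))
      (fun h => hψ' ((QuotientGroup.eq_one_iff ψ).1 h))
    obtain ⟨g, hg⟩ : φ * ψ⁻¹ ∈ Cfsg.Inn H95.hsPair.G :=
      (QuotientGroup.eq_one_iff (N := Cfsg.Inn H95.hsPair.G) _).1
        (by rw [QuotientGroup.mk_mul, QuotientGroup.mk_inv, e, mul_inv_cancel])
    obtain ⟨k₀, rfl⟩ := q_surjective M hcard g
    refine ⟨k₀.1 * M.z, finish _ fun k => ?_⟩
    have h3 : φ = MulAut.conj (q M hcard k₀) * ψ := by rw [hg, inv_mul_cancel_right]
    rw [h3, MulAut.mul_apply, hψ, MulAut.conj_apply, ← map_inv, ← map_mul, ← map_mul]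
    refine congrArg _ (Subtype.ext ?_)
    show k₀.1 * (M.z * k.1 * M.z⁻¹) * k₀.1⁻¹ = k₀.1 * M.z * k.1 * (k₀.1 * M.z)⁻¹
    group

/-- An element of order eleven whose centraliser has just one involution. -/
theorem exists_eleven (hcard : Nat.card N = 177408000) :
    ∃ f : N, orderOf f = 11 ∧ ∀ n : N, n * f = f * n → n * n = 1 → n = 1 ∨ n = M.x * M.x := by
  obtain ⟨h4, hc, -, -, -⟩ := small_facts M hcard
  haveI : Fact (Nat.Prime 11) := ⟨by norm_num⟩
  obtain ⟨k, hk⟩ := q_surjective M hcard H95.hsPair.x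
  have hx11 : H95.hsPair.x ^ 11 = 1 := by rw [← H95.hsPair.order_x, pow_orderOf_eq_one]
  have hk22 : k ^ 22 = 1 := by
    have h11 : q M hcard (k ^ 11) = 1 := by rw [map_pow, hk, hx11]
    rw [show 22 = 11 * 2 from rfl, pow_mul]
    rcases (mem_q_ker M hcard _).1 h11 with e | e
    · rw [show k ^ 11 = 1 from Subtype.ext e, one_pow]
    · exact Subtype.ext (by rw [SubgroupClass.coe_pow, e, pow_two]; exact h4)
  set f : M.K := k ^ 12 with hf
  have hqf : q M hcard f = H95.hsPair.x := by rw [hf, map_pow, hk, pow_succ, hx11, one_mul]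
  have hf11 : f ^ 11 = 1 := by
    rw [hf, ← pow_mul, show 12 * 11 = 22 * 6 from rfl, pow_mul, hk22, one_pow]
  have hfne : f ≠ 1 := fun h => by
    have := H95.hsPair.order_x
    rw [← hqf, h, map_one, orderOf_one] at this
    norm_num at this
  refine ⟨f.1, (Subgroup.orderOf_coe f).trans (orderOf_eq_prime hf11 hfne), fun n hn hn2 => ?_⟩
  have hnK : n ∈ M.K := by
    obtain ⟨φ, hφ⟩ := exists_induced M hcard (MulAut.conj n) (by
      rw [MulAut.conj_apply, hc, mul_inv_cancel_right])
    have hfix : φ H95.hsPair.x = H95.hsPair.x := by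
      have e := hφ f
      rw [show resAut M hcard (MulAut.conj n) f = f from Subtype.ext (by
        show n * f.1 * n⁻¹ = f.1
        rw [hn, mul_inv_cancel_right]), hqf] at e
      exact e
    obtain ⟨g, hg⟩ := inner_of_fix φ hfix
    exact mem_K_of_inner M hcard n g fun j => by rw [← hφ, ← hg, MulAut.conj_apply]
  have hcomm : q M hcard ⟨n, hnK⟩ * H95.hsPair.x = H95.hsPair.x * q M hcard ⟨n, hnK⟩ := by
    rw [← hqf, ← map_mul, ← map_mul]
    exact congrArg _ (Subtype.ext hn)
  obtain ⟨m, hm⟩ := cent_x hcomm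
  have h1 : q M hcard ⟨n, hnK⟩ = 1 := by
    have hsq : q M hcard ⟨n, hnK⟩ ^ 2 = 1 := by
      rw [← map_pow, show (⟨n, hnK⟩ : M.K) ^ 2 = 1 from Subtype.ext (by
        rw [SubgroupClass.coe_pow, pow_two]; exact hn2), map_one]
    have h11 : q M hcard ⟨n, hnK⟩ ^ 11 = 1 := by
      rw [← hm]
      show (H95.hsPair.x ^ m) ^ (11 : ℕ) = 1
      rw [← zpow_natCast, ← zpow_mul, mul_comm, zpow_mul, zpow_natCast, hx11, one_zpow]
    have := pow_gcd_eq_one.2 ⟨hsq, h11⟩
    rwa [show Nat.gcd 2 11 = 1 from rfl, pow_one] at this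
  exact (mem_q_ker M hcard _).1 h1

end H99.HN
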