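import Cfsg.Agent.H99.HN.Cover
import Cfsg.Agent.H99.HN.Chain
import Cfsg.Prelude.Def_Spor_HN

/-!
The outer automorphism group of a group acting on the cosets of `2.HS:2` as the Harada–Norton
group does has order two, once the map `z ↦ z x²`, `t ↦ t²` is a homomorphism.
-/

set_option autoImplicit false
set_option maxRecDepth 100000

namespace H99.HN

open Cfsg H81.HNCover

universe u

/-- A group given by `x, y, z, t` and its action on the cosets of `⟨x, y, z⟩`. -/
structure Frame {G : Type u} [Group G] (N : Subgroup G) where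
  M : Model N
  hcard : Nat.card N = 177408000
  hidx : N.index = 1539000
  f : G ⧸ N → Fin 9
  h0 : f (QuotientGroup.mk 1) = 0
  hsize : ∀ i, Nat.card {a : G ⧸ N // f a = i} = orbitSize i
  htrans : ∀ a b, f a = f b → ∃ n ∈ N, n • a = b
  t : G
  ht5 : t ^ 5 = 1
  htx : (M.x : G)⁻¹ * t * M.x = (t ^ 2)⁻¹
  hty : t * M.y = M.y * t
  hzt : ((M.z : G) * t) ^ 3 = 1
  hgen : Subgroup.closure ({(M.x : G), (M.y : G), (M.z : G), t} : Set G) = ⊤

namespace Frame

variable {G : Type u} [Group G] {N : Subgroup G} (D : Frame N)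

include D

/-- The central involution of `N`. -/
def c : G := (D.M.x * D.M.x : N)

theorem c_mem : D.c ∈ N := SetLike.coe_mem _

theorem c_sq : D.c * D.c = 1 :=
  congrArg Subtype.val (small_facts D.M D.hcard).1

theorem c_inv : D.c⁻¹ = D.c := inv_eq_of_mul_eq_one_right D.c_sq

theorem c_ne : D.c ≠ 1 := fun h => (small_facts D.M D.hcard).2.2.1 (Subtype.ext h)

theorem c_comm {g : G} (hg : g ∈ N) : g * D.c = D.c * g :=
  congrArg Subtype.val ((small_facts D.M D.hcard).2.1 ⟨g, hg⟩)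

theorem finite_G : Finite G :=
  Nat.finite_of_card_ne_zero (by rw [← N.card_mul_index, D.hcard, D.hidx]; norm_num)

/-- A finite set of cosets closed under `N` is a union of fibres. -/
theorem card_stable (B : Finset (G ⧸ N)) (hB : ∀ n ∈ N, ∀ a ∈ B, n • a ∈ B) :
    B.card = ∑ j ∈ B.image D.f, orbitSize j := by
  classical
  haveI := D.finite_G
  haveI := Fintype.ofFinite (G ⧸ N)
  rw [Finset.card_eq_sum_card_image D.f B]
  refine Finset.sum_congr rfl fun j hj => ?_
  rw [← D.hsize j, Nat.card_eq_fintype_card, Fintype.card_subtype]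
  congr 1
  ext a
  refine ⟨fun h => Finset.mem_filter.2 ⟨Finset.mem_univ _, (Finset.mem_filter.1 h).2⟩,
    fun h => Finset.mem_filter.2 ⟨?_, (Finset.mem_filter.1 h).2⟩⟩
  obtain ⟨b, hb, e⟩ := Finset.mem_image.1 hj
  obtain ⟨n, hn, rfl⟩ := D.htrans b a (e.trans (Finset.mem_filter.1 h).2.symm)
  exact hB n hn b hb

theorem maximal (P : Subgroup G) (hP : N ≤ P) : P = N ∨ P = ⊤ := by
  classical
  haveI := D.finite_G
  haveI := Fintype.ofFinite (G ⧸ N)
  let B : Finset (G ⧸ N) := Finset.univ.filter fun a => ∃ g ∈ P, QuotientGroup.mk g = a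
  have hBc := D.card_stable B fun n hn a ha => by
    obtain ⟨g, hg, rfl⟩ := (Finset.mem_filter.1 ha).2
    exact Finset.mem_filter.2 ⟨Finset.mem_univ _, n * g, mul_mem (hP hn) hg, rfl⟩
  have hset : (QuotientGroup.mk ⁻¹' (B : Set (G ⧸ N)) : Set G) = (P : Set G) := by
    ext g
    simp only [Set.mem_preimage, Finset.mem_coe, B, Finset.mem_filter, Finset.mem_univ, true_and,
      SetLike.mem_coe]
    refine ⟨?_, fun hg => ⟨g, hg, rfl⟩⟩
    rintro ⟨p, hp, e⟩
    have := mul_mem hp (hP (QuotientGroup.eq.1 e))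
    rwa [mul_inv_cancel_left] at this
  have hcP : Nat.card P = Nat.card N * B.card := by
    have e := Nat.card_congr (QuotientGroup.preimageMkEquivSubgroupProdSet N (B : Set (G ⧸ N)))
    rw [Nat.card_prod, hset] at e
    rw [Nat.card_coe_set_eq (B : Set (G ⧸ N)), Set.ncard_coe_finset] at e
    exact e
  have hG : Nat.card G = Nat.card N * 1539000 := by rw [← D.hidx, N.card_mul_index]
  have hdvd : B.card ∣ 1539000 := by
    have h := P.card_subgroup_dvd_card
    rw [hG, hcP] at h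
    exact Nat.dvd_of_mul_dvd_mul_left (by rw [D.hcard]; norm_num) h
  have hA0 : (0 : Fin 9) ∈ B.image D.f := Finset.mem_image.2
    ⟨_, Finset.mem_filter.2 ⟨Finset.mem_univ _, 1, one_mem _, rfl⟩, D.h0⟩
  rcases unions _ hA0 (hBc ▸ hdvd) with h | h
  · left
    refine (Subgroup.eq_of_le_of_card_ge hP ?_).symm
    rw [hcP, hBc, h, Finset.sum_singleton]
    exact le_of_eq (mul_one _)
  · right
    rw [← Subgroup.card_eq_iff_eq_top, hcP, hG, hBc, h]
    congr 1

theorem t_not_mem : D.t ∉ N := fun h => by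
  have : N = ⊤ := eq_top_iff.2 (D.hgen ▸ (Subgroup.closure_le N).2 (by
    rintro g (rfl | rfl | rfl | rfl)
    exacts [SetLike.coe_mem _, SetLike.coe_mem _, SetLike.coe_mem _, h]))
  have h2 := D.hidx
  rw [this, Subgroup.index_top] at h2
  norm_num at h2

theorem t_pow_ne {d : ℕ} (hd : d % 5 ≠ 0) : D.t ^ d ∉ N := fun h => by
  haveI : Fact (Nat.Prime 5) := ⟨by norm_num⟩
  have ho : orderOf D.t = 5 := orderOf_eq_prime D.ht5 fun e => D.t_not_mem (e ▸ one_mem N)
  obtain ⟨m, hm⟩ := exists_pow_eq_self_of_coprime (n := d) (x := D.t) (by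
    rw [ho]
    exact ((Nat.Prime.coprime_iff_not_dvd (by norm_num)).2 fun h5 => hd (Nat.mod_eq_zero_of_dvd h5)).symm)
  exact D.t_not_mem (hm ▸ pow_mem h m)

/-- Conjugation by `x` squares-inverts. -/
theorem x_pow (k : ℕ) : (D.M.x : G)⁻¹ * D.t ^ k * D.M.x = D.t ^ (3 * k) := by
  have h5 : (D.t ^ 2)⁻¹ = D.t ^ 3 :=
    inv_eq_of_mul_eq_one_right (by rw [← pow_add]; exact D.ht5)
  calc (D.M.x : G)⁻¹ * D.t ^ k * D.M.x = ((D.M.x : G)⁻¹ * D.t * D.M.x) ^ k := by
        have := conj_pow (a := (D.M.x : G)⁻¹) (b := D.t) (i := k)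
        rw [inv_inv] at this
        exact this.symm
    _ = D.t ^ (3 * k) := by rw [D.htx, h5, ← pow_mul]

theorem c_conj : D.c * D.t * D.c = D.t⁻¹ := by
  have e : (D.t⁻¹ : G) = D.t ^ 9 :=
    inv_eq_of_mul_eq_one_right (by rw [← pow_succ', show 9 + 1 = 5 * 2 from rfl, pow_mul, D.ht5, one_pow])
  conv_lhs => arg 1; arg 1; rw [← D.c_inv]
  rw [e]
  show ((D.M.x * D.M.x : N) : G)⁻¹ * D.t * (D.M.x * D.M.x : N) = _
  rw [Subgroup.coe_mul, mul_inv_rev]
  calc _ = (D.M.x : G)⁻¹ * ((D.M.x : G)⁻¹ * D.t ^ 1 * D.M.x) * D.M.x := by group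
    _ = D.t ^ 9 := by rw [D.x_pow, D.x_pow]

theorem c_conj_pow (k : ℕ) : D.c * D.t ^ k * D.c = (D.t ^ k)⁻¹ := by
  have := conj_pow (a := D.c) (b := D.t) (i := k)
  rw [D.c_inv, D.c_conj, inv_pow] at this
  exact this.symm

theorem centralizer_c {g : G} : g * D.c = D.c * g ↔ g ∈ N := by
  refine ⟨fun h => ?_, D.c_comm⟩
  rcases D.maximal (Subgroup.centralizer {D.c})
    (fun n hn => Subgroup.mem_centralizer_singleton_iff.2 (D.c_comm hn)) with e | e
  · exact e ▸ Subgroup.mem_centralizer_singleton_iff.2 h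
  · exfalso
    have h1 : D.t * D.c = D.c * D.t :=
      Subgroup.mem_centralizer_singleton_iff.1 (e ▸ Subgroup.mem_top D.t)
    have h2 := D.c_conj
    rw [← h1, mul_assoc, D.c_sq, mul_one] at h2
    refine D.t_pow_ne (d := 2) (by norm_num) ?_
    rw [pow_two]
    conv => arg 2; arg 1; rw [h2]
    rw [inv_mul_cancel]
    exact one_mem N

theorem orbit_card (a : G ⧸ N) : Nat.card (MulAction.orbit N a) * Nat.card (MulAction.stabilizer N a) =
    177408000 := by
  rw [← D.hcard, ← Nat.card_congr (MulAction.orbitProdStabilizerEquivGroup N a), Nat.card_prod]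

theorem base_of_mem (n : G) (hn : n ∈ N) : n • (QuotientGroup.mk 1 : G ⧸ N) = QuotientGroup.mk 1 := by
  rw [MulAction.Quotient.smul_mk, smul_eq_mul, mul_one, QuotientGroup.eq, mul_one]
  exact inv_mem hn

theorem eq_base (a : G ⧸ N) (h : D.f a = 0) : a = QuotientGroup.mk 1 := by
  obtain ⟨n, hn, e⟩ := D.htrans _ a (D.h0.trans h.symm)
  rw [← e, D.base_of_mem n hn]

/-- An element of order eleven of `N` fixes only the base coset. -/
theorem eleven_fix (f₁ : N) (hf : orderOf f₁ = 11) (a : G ⧸ N) (h : (f₁ : G) • a = a) :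
    a = QuotientGroup.mk 1 := by
  classical
  haveI := D.finite_G
  haveI := Fintype.ofFinite (G ⧸ N)
  by_contra ha
  let B : Finset (G ⧸ N) := (MulAction.orbit N a).toFinset
  have hB := D.card_stable B fun n hn b hb => by
    rw [Set.mem_toFinset] at hb ⊢
    obtain ⟨m, rfl⟩ := hb
    exact ⟨⟨n, hn⟩ * m, mul_smul (⟨n, hn⟩ : N) m a⟩
  have h11 : 11 ∣ B.card := by
    rw [hB]
    refine Finset.dvd_sum fun j hj => ?_
    have key : ∀ j : Fin 9, j ≠ 0 → 11 ∣ orbitSize j := by decide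
    refine key j fun hj0 => ?_
    obtain ⟨b, hb, e⟩ := Finset.mem_image.1 hj
    rw [Set.mem_toFinset] at hb
    obtain ⟨n, rfl⟩ := hb
    refine ha ?_
    have e' : (n : G) • a = QuotientGroup.mk 1 := D.eq_base _ (e.trans hj0)
    rw [← inv_smul_eq_iff.2 e'.symm, D.base_of_mem _ (inv_mem n.2)]
  have h2 : 11 ∣ Nat.card (MulAction.stabilizer N a) := by
    rw [← hf, ← Subgroup.orderOf_mk (H := MulAction.stabilizer N a) f₁ h]
    exact orderOf_dvd_natCard _
  have h3 := D.orbit_card a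
  rw [Set.toFinset_card, ← Nat.card_eq_fintype_card] at h11
  have h4 : 11 * 11 ∣ 177408000 := h3 ▸ Nat.mul_dvd_mul h11 h2
  norm_num at h4

theorem eleven_cent (f₁ : N) (hf : orderOf f₁ = 11) {g : G} (h : g * f₁ = f₁ * g) : g ∈ N := by
  have e := D.eleven_fix f₁ hf (QuotientGroup.mk g) (by
    rw [MulAction.Quotient.smul_mk, smul_eq_mul, ← h, QuotientGroup.eq, mul_inv_rev, mul_assoc,
      inv_mul_cancel, mul_one]
    exact inv_mem f₁.2)
  rw [QuotientGroup.eq, mul_one] at e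
  exact inv_mem_iff.1 e

theorem fix_c_mem {α : MulAut G} (h : α D.c = D.c) {g : G} (hg : g ∈ N) : α g ∈ N :=
  D.centralizer_c.1 (by rw [← h, ← map_mul, D.c_comm hg, map_mul])

/-- An automorphism moved by an inner one fixes the central involution. -/
theorem exists_fix_c (α : MulAut G) : ∃ g : G, (MulAut.conj g * α) D.c = D.c := by
  haveI := D.finite_G
  haveI : Fact (Nat.Prime 11) := ⟨by norm_num⟩
  obtain ⟨f₁, hf, hinv⟩ := exists_eleven D.M D.hcard
  have hfG : orderOf (f₁ : G) = 11 := (Subgroup.orderOf_coe f₁).trans hf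
  have hG : Nat.card G = 273030912000000 := by rw [← N.card_mul_index, D.hcard, D.hidx]
  have mk : ∀ P : Subgroup G, Nat.card P = 11 → ∃ S : Sylow 11 G, (S : Subgroup G) = P := by
    intro P hP
    have hp : IsPGroup 11 P := IsPGroup.of_card (n := 1) (by rw [hP, pow_one])
    refine ⟨hp.toSylow (fun h => ?_), rfl⟩
    have h2 := P.card_mul_index
    rw [hP, hG] at h2
    have : P.index = 24820992000000 := by omega
    rw [this] at h
    norm_num at h
  obtain ⟨S, hS⟩ := mk (Subgroup.zpowers (f₁ : G)) (by rw [Nat.card_zpowers, hfG])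
  obtain ⟨T, hT⟩ := mk (Subgroup.zpowers (α (f₁ : G)))
    (by rw [Nat.card_zpowers, MulEquiv.orderOf_eq α, hfG])
  obtain ⟨g, hg⟩ := MulAction.exists_smul_eq G T S
  refine ⟨g, ?_⟩
  set β := MulAut.conj g * α with hβ
  have hmem : β (f₁ : G) ∈ Subgroup.zpowers (f₁ : G) := by
    rw [← hS, ← hg, Sylow.coe_subgroup_smul, hT]
    exact Subgroup.smul_mem_pointwise_smul _ (MulAut.conj g) _ (Subgroup.mem_zpowers _)
  have heq : Subgroup.zpowers (β (f₁ : G)) = Subgroup.zpowers (f₁ : G) := by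
    refine Subgroup.eq_of_le_of_card_ge (Subgroup.zpowers_le.2 hmem) ?_
    rw [Nat.card_zpowers, Nat.card_zpowers, MulEquiv.orderOf_eq β]
  obtain ⟨m, hm⟩ : (f₁ : G) ∈ Subgroup.zpowers (β (f₁ : G)) := heq ▸ Subgroup.mem_zpowers _
  have hcomm : β D.c * f₁ = f₁ * β D.c := by
    have hm' : β ((f₁ : G) ^ m) = f₁ := (map_zpow β _ m).trans hm
    rw [← hm', ← map_mul, ← map_mul, D.c_comm (zpow_mem f₁.2 m)]
  rcases hinv ⟨β D.c, D.eleven_cent f₁ hf hcomm⟩ (Subtype.ext hcomm)
    (Subtype.ext (show β D.c * β D.c = 1 by rw [← map_mul, D.c_sq, map_one])) with h | h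
  · exact absurd (β.injective ((congrArg Subtype.val h).trans (map_one β).symm)) D.c_ne
  · exact congrArg Subtype.val h

/-- The restriction to `N` of an automorphism fixing the involution. -/
noncomputable def resN (α : MulAut G) (h : α D.c = D.c) : MulAut N :=
  MonoidHom.toMulEquiv
    ((α.toMonoidHom.comp N.subtype).codRestrict N fun n => D.fix_c_mem h n.2)
    ((α.symm.toMonoidHom.comp N.subtype).codRestrict N fun n =>
      D.fix_c_mem (α := α.symm) (α.injective (by rw [α.apply_symm_apply, h])) n.2)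
    (MonoidHom.ext fun n => Subtype.ext (α.symm_apply_apply n.1))
    (MonoidHom.ext fun n => Subtype.ext (α.apply_symm_apply n.1))

/-- The centraliser in `N` of the subgroup of index two. -/
theorem cent_K (n : N) (h : ∀ k ∈ D.M.K, k * n = n * k) : (n : G) = 1 ∨ (n : G) = D.c := by
  have hn := D.M.centralizer_K h
  have hcen : q D.M D.hcard ⟨n, hn⟩ ∈ Subgroup.center H95.hsPair.G :=
    Subgroup.mem_center_iff.2 fun g => by
      obtain ⟨m, rfl⟩ := q_surjective D.M D.hcard g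
      rw [← map_mul, ← map_mul]
      exact congrArg _ (Subtype.ext (h m.1 m.2))
  have hz : Subgroup.center H95.pvU'.group = ⊥ := center_group
  rcases (mem_q_ker D.M D.hcard ⟨n, hn⟩).1 (Subgroup.mem_bot.1 (hz ▸ hcen)) with e | e
  · exact Or.inl (congrArg Subtype.val e)
  · exact Or.inr (congrArg Subtype.val e)

/-- An automorphism moved by an inner one fixes `x`, `y` and fixes or twists `z`. -/
theorem exists_normal_form (α : MulAut G) : ∃ g : G,
    (MulAut.conj g * α) (D.M.x : G) = D.M.x ∧ (MulAut.conj g * α) (D.M.y : G) = D.M.y ∧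
    ((MulAut.conj g * α) (D.M.z : G) = D.M.z ∨ (MulAut.conj g * α) (D.M.z : G) = D.M.z * D.c) := by
  obtain ⟨g, hg⟩ := D.exists_fix_c α
  set β := MulAut.conj g * α with hβ
  obtain ⟨n, hn⟩ := exists_conj D.M D.hcard (D.resN β hg) (Subtype.ext hg)
  refine ⟨(n : G)⁻¹ * g, ?_⟩
  rw [map_mul, mul_assoc, ← hβ]
  set γ := MulAut.conj ((n : G)⁻¹) * β with hγ
  have hK : ∀ k : N, k ∈ D.M.K → γ (k : G) = k := fun k hk => by
    have e : β (k : G) = (n : G) * k * (n : G)⁻¹ := congrArg Subtype.val (hn k hk)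
    rw [hγ, MulAut.mul_apply, e, MulAut.conj_apply]
    group
  refine ⟨hK _ (x_mem_K _), hK _ (y_mem_K _), ?_⟩
  have hzc : γ D.c = D.c := hK (D.M.x * D.M.x) (mul_mem (x_mem_K _) (x_mem_K _))
  have hzN : γ (D.M.z : G) ∈ N := D.fix_c_mem hzc D.M.z.2
  haveI : D.M.K.Normal := Subgroup.normal_of_index_eq_two D.M.index_K
  have hcK : ∀ k ∈ D.M.K, k * (D.M.z⁻¹ * ⟨_, hzN⟩) = (D.M.z⁻¹ * ⟨_, hzN⟩) * k := fun k hk => by
    have hk' : D.M.z * k * D.M.z⁻¹ ∈ D.M.K := (inferInstance : D.M.K.Normal).conj_mem _ hk _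
    have e := hK _ hk'
    rw [Subgroup.coe_mul, Subgroup.coe_mul, map_mul, map_mul, Subgroup.coe_inv, map_inv, hK k hk] at e
    refine Subtype.ext ?_
    show (k : G) * ((D.M.z : G)⁻¹ * γ (D.M.z : G)) = (D.M.z : G)⁻¹ * γ (D.M.z : G) * k
    calc (k : G) * ((D.M.z : G)⁻¹ * γ (D.M.z : G))
        = (D.M.z : G)⁻¹ * ((D.M.z : G) * k * (D.M.z : G)⁻¹) * γ (D.M.z : G) := by group
      _ = (D.M.z : G)⁻¹ * (γ (D.M.z : G) * k * (γ (D.M.z : G))⁻¹) * γ (D.M.z : G) := by rw [e]
      _ = _ := by group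
  rcases D.cent_K _ hcK with e | e
  · exact Or.inl (inv_mul_eq_one.1 e).symm
  · exact Or.inr (inv_mul_eq_iff_eq_mul.1 e)

/-- Two endomorphisms agreeing on the four generators are equal. -/
theorem hom_ext {φ ψ : G →* G} (hx : φ D.M.x = ψ D.M.x) (hy : φ D.M.y = ψ D.M.y)
    (hz : φ D.M.z = ψ D.M.z) (ht : φ D.t = ψ D.t) : φ = ψ :=
  MonoidHom.eq_of_eqOn_dense D.hgen (by rintro g (rfl | rfl | rfl | rfl) <;> assumption)

theorem hub_comm {h : N} (hh : h ∈ hub D.M) : D.t * h = h * D.t := by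
  have hle : hub D.M ≤ (Subgroup.centralizer {D.t}).comap N.subtype := by
    refine (Subgroup.closure_le _).2 ?_
    rintro n (rfl | rfl) <;>
      rw [SetLike.mem_coe, Subgroup.mem_comap, Subgroup.mem_centralizer_singleton_iff]
    · exact D.hty.symm
    · show ((D.M.x⁻¹ * D.M.y * D.M.x : N) : G) * D.t = D.t * (D.M.x⁻¹ * D.M.y * D.M.x : N)
      have e : D.t = (D.M.x : G)⁻¹ * D.t ^ 2 * D.M.x := by
        rw [D.x_pow, show 3 * 2 = 5 + 1 from rfl, pow_succ, D.ht5, one_mul]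
      have e2 : D.t ^ 2 * (D.M.y : G) = D.M.y * D.t ^ 2 :=
        (Commute.pow_left (show Commute D.t (D.M.y : G) from D.hty) 2).eq
      rw [e]
      push_cast
      calc _ = (D.M.x : G)⁻¹ * ((D.M.y : G) * D.t ^ 2) * D.M.x := by group
        _ = (D.M.x : G)⁻¹ * (D.t ^ 2 * (D.M.y : G)) * D.M.x := by rw [e2]
        _ = _ := by group
  exact (Subgroup.mem_centralizer_singleton_iff.1 (hle hh)).symm

/-- A coset fixed by the hub. -/
theorem fixed_of_comm {s : G} (hs : ∀ h : N, h ∈ hub D.M → s * h = h * s) :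
    ∀ h : N, h ∈ hub D.M → (h : G) • (QuotientGroup.mk s : G ⧸ N) = QuotientGroup.mk s := by
  intro h hh
  rw [MulAction.Quotient.smul_mk, smul_eq_mul, ← hs h hh, QuotientGroup.eq]
  rw [show (s * (h : G))⁻¹ * s = (h : G)⁻¹ by group]
  exact inv_mem h.2

/-- A moved coset fixed by the hub has the hub as its stabiliser and lies in the second orbit. -/
theorem fixed_orbit (a : G ⧸ N) (ha : a ≠ QuotientGroup.mk 1)
    (hfix : ∀ h : N, h ∈ hub D.M → (h : G) • a = a) :
    D.f a = 1 ∧ MulAction.stabilizer N a = hub D.M := by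
  classical
  haveI := D.finite_G
  obtain ⟨-, hub2⟩ := hub_eq D.M D.hcard
  have hle : hub D.M ≤ MulAction.stabilizer N a := fun h hh => hfix h hh
  have h1 : 126000 ≤ Nat.card (MulAction.stabilizer N a) := hub2 ▸ Subgroup.card_le_of_le hle
  have h2 : orbitSize (D.f a) ≤ Nat.card (MulAction.orbit N a) := by
    rw [← D.hsize]
    refine Nat.card_le_card_of_injective (fun b => ⟨b.1, ?_⟩) fun b b' e =>
      Subtype.ext (congrArg (fun w : MulAction.orbit N a => (w : G ⧸ N)) e)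
    obtain ⟨n, hn, e⟩ := D.htrans a b.1 b.2.symm
    exact ⟨⟨n, hn⟩, e⟩
  have h3 := D.orbit_card a
  have key : ∀ j : Fin 9, j ≠ 0 → orbitSize j ≤ 1408 → j = 1 ∧ orbitSize j = 1408 := by decide
  have h4 : Nat.card (MulAction.orbit N a) ≤ 1408 := by
    have := Nat.mul_le_mul_left (Nat.card (MulAction.orbit N a)) h1
    rw [h3] at this
    omega
  obtain ⟨hf1, hs1⟩ := key _ (fun h => ha (D.eq_base a h)) (h2.trans h4)
  refine ⟨hf1, (Subgroup.eq_of_le_of_card_ge hle ?_).symm⟩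
  rw [hs1] at h2
  rw [le_antisymm h4 h2] at h3
  rw [hub2]
  omega

theorem hub_fixed_le : Nat.card {a : G ⧸ N // a ≠ QuotientGroup.mk 1 ∧
    ∀ h : N, h ∈ hub D.M → (h : G) • a = a} ≤ 4 := by
  classical
  haveI := D.finite_G
  have ht := D.fixed_of_comm fun h hh => D.hub_comm hh
  have htne : (QuotientGroup.mk D.t : G ⧸ N) ≠ QuotientGroup.mk 1 := fun h => by
    rw [QuotientGroup.eq, mul_one] at h
    exact D.t_not_mem (inv_mem_iff.1 h)
  obtain ⟨ht1, htstab⟩ := D.fixed_orbit _ htne ht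
  have hp : ∀ a : {a : G ⧸ N // a ≠ QuotientGroup.mk 1 ∧ ∀ h : N, h ∈ hub D.M → (h : G) • a = a},
      ∃ p : Fin 4, ∃ n : N, n • (QuotientGroup.mk D.t : G ⧸ N) = a.1 ∧ (D.M.ρ n 0).val = p.val := by
    rintro ⟨a, hne, hfix⟩
    obtain ⟨n, hn, e⟩ := D.htrans _ a (ht1.trans (D.fixed_orbit a hne hfix).1.symm)
    refine ⟨⟨_, fixed_lt_four D.M (D.M.ρ ⟨n, hn⟩ 0) fun h hh => ?_⟩, ⟨n, hn⟩, e, rfl⟩
    have hm : (⟨n, hn⟩ : N)⁻¹ * h * ⟨n, hn⟩ ∈ hub D.M := by
      rw [← htstab, MulAction.mem_stabilizer_iff, mul_smul, mul_smul, inv_smul_eq_iff]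
      exact (congrArg (fun b => (h : G) • b) e).trans ((hfix h hh).trans e.symm)
    rw [(hub_eq D.M D.hcard).1] at hm
    have hm' : D.M.ρ ((⟨n, hn⟩ : N)⁻¹ * h * ⟨n, hn⟩) 0 = 0 := hm
    rw [map_mul, map_mul, map_inv, Equiv.Perm.mul_apply, Equiv.Perm.mul_apply,
      Equiv.Perm.inv_eq_iff_eq] at hm'
    exact hm'
  choose p n hn1 hn2 using hp
  refine le_trans (Nat.card_le_card_of_injective p fun a b e => Subtype.ext ?_) (le_of_eq (Nat.card_fin 4))
  have e0 : D.M.ρ (n a) 0 = D.M.ρ (n b) 0 := Fin.ext ((hn2 a).trans (e ▸ (hn2 b).symm))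
  have hmem : (n a)⁻¹ * n b ∈ hub D.M := by
    rw [(hub_eq D.M D.hcard).1]
    show D.M.ρ ((n a)⁻¹ * n b) 0 = 0
    rw [map_mul, map_inv, Equiv.Perm.mul_apply, Equiv.Perm.inv_eq_iff_eq, e0]
  rw [← htstab, MulAction.mem_stabilizer_iff, mul_smul, inv_smul_eq_iff] at hmem
  rw [← hn1 a, ← hn1 b, hmem]

/-- An element of order five centralising the hub and inverted by the involution is a power. -/
theorem eq_t_pow {s : G} (hs5 : s ^ 5 = 1) (hsc : D.c * s * D.c = s⁻¹)
    (hs : ∀ h : N, h ∈ hub D.M → s * h = h * s) : ∃ i, i < 5 ∧ s = D.t ^ i := by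
  classical
  haveI := D.finite_G
  haveI := Fintype.ofFinite (G ⧸ N)
  by_contra hno
  push Not at hno
  have hdiff : ∀ i, i < 5 → (QuotientGroup.mk s : G ⧸ N) ≠ QuotientGroup.mk (D.t ^ i) := by
    intro i hi e
    rw [QuotientGroup.eq] at e
    have hc := D.c_comm e
    have h1 : ∀ r : G, D.c * r * D.c = r⁻¹ → r * D.c * r⁻¹ = r * r * D.c := by
      intro r hr
      rw [← hr, ← mul_assoc, ← mul_assoc, mul_assoc r D.c D.c, D.c_sq, mul_one]
    have h2 : s * D.c * s⁻¹ = D.t ^ i * D.c * (D.t ^ i)⁻¹ := by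
      calc s * D.c * s⁻¹ = s * (D.c * (s⁻¹ * D.t ^ i)) * (D.t ^ i)⁻¹ := by group
        _ = s * ((s⁻¹ * D.t ^ i) * D.c) * (D.t ^ i)⁻¹ := by rw [hc]
        _ = _ := by group
    rw [h1 s hsc, h1 _ (D.c_conj_pow i)] at h2
    have h3 : s ^ 2 = (D.t ^ i) ^ 2 := by rw [pow_two, pow_two]; exact mul_right_cancel h2
    refine hno i hi ?_
    calc s = s ^ (5 + 1) := by rw [pow_succ, hs5, one_mul]
      _ = (s ^ 2) ^ 3 := by rw [← pow_mul]
      _ = (D.t ^ i) ^ (5 + 1) := by rw [h3, ← pow_mul]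
      _ = D.t ^ i := by
        rw [pow_succ, ← pow_mul, mul_comm i, pow_mul, D.ht5, one_pow, one_mul]
  have hinj : ∀ i j : ℕ, i < 5 → j < 5 → (QuotientGroup.mk (D.t ^ i) : G ⧸ N) = QuotientGroup.mk (D.t ^ j) →
      i ≤ j → i = j := by
    intro i j hi hj e hij
    by_contra hne
    rw [QuotientGroup.eq, ← Nat.add_sub_cancel' hij, pow_add, inv_mul_cancel_left] at e
    exact D.t_pow_ne (d := j - i) (by omega) e
  have hts : ∀ k, ∀ h : N, h ∈ hub D.M → D.t ^ k * (h : G) = h * D.t ^ k := fun k h hh =>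
    (Commute.pow_left (show Commute D.t (h : G) from D.hub_comm hh) k).eq
  let F : Fin 4 ⊕ Unit → {a : G ⧸ N // a ≠ QuotientGroup.mk 1 ∧ ∀ h : N, h ∈ hub D.M → (h : G) • a = a} :=
    Sum.elim
      (fun i => ⟨QuotientGroup.mk (D.t ^ (i.val + 1)), fun e => absurd
          (hinj 0 (i.val + 1) (by norm_num) (by omega) (by rw [pow_zero]; exact e.symm) (by omega)) (by omega),
        D.fixed_of_comm (hts _)⟩)
      (fun _ => ⟨QuotientGroup.mk s, fun e => hdiff 0 (by norm_num) (by rw [pow_zero]; exact e),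
        D.fixed_of_comm hs⟩)
  have hF : Function.Injective F := by
    rintro (i | _) (j | _) e <;> have e' := congrArg Subtype.val e <;>
      simp only [F, Sum.elim_inl, Sum.elim_inr] at e'
    · refine congrArg Sum.inl (Fin.ext ?_)
      rcases le_total (i.val + 1) (j.val + 1) with h | h
      · have := hinj _ _ (by omega) (by omega) e' h
        omega
      · have := hinj _ _ (by omega) (by omega) e'.symm h
        omega
    · exact absurd e'.symm (hdiff _ (by omega))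
    · exact absurd e' (hdiff _ (by omega))
    · rfl
  have := le_trans (Nat.card_le_card_of_injective F hF) D.hub_fixed_le
  simp [Nat.card_sum] at this

/-- The relation on `z x²` and `t²`. -/
theorem zct : ((D.M.z : G) * D.c * D.t ^ 2) ^ 3 = 1 := by
  let W : N := D.M.y * D.M.x * D.M.y * D.M.x * D.M.y * D.M.y * D.M.x * D.M.y⁻¹
  have hz : (W : G)⁻¹ * D.M.z * W = D.M.z * D.c := by
    have e := congrArg Subtype.val (small_facts D.M D.hcard).2.2.2.2
    rw [mul_assoc, inv_mul_eq_iff_eq_mul, ← mul_assoc]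
    exact e
  have hy : ∀ k, (D.M.y : G)⁻¹ * D.t ^ k * D.M.y = D.t ^ k := fun k => by
    rw [mul_assoc, (Commute.pow_left (show Commute D.t (D.M.y : G) from D.hty) k).eq, inv_mul_cancel_left]
  have hy' : ∀ k, (D.M.y : G) * D.t ^ k * (D.M.y : G)⁻¹ = D.t ^ k := fun k => by
    rw [← (Commute.pow_left (show Commute D.t (D.M.y : G) from D.hty) k).eq, mul_inv_cancel_right]
  have ht : (W : G)⁻¹ * D.t * W = D.t ^ 2 := by
    calc (W : G)⁻¹ * D.t * W = (D.M.y : G) * ((D.M.x : G)⁻¹ * ((D.M.y : G)⁻¹ * ((D.M.y : G)⁻¹ *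
          ((D.M.x : G)⁻¹ * ((D.M.y : G)⁻¹ * ((D.M.x : G)⁻¹ * ((D.M.y : G)⁻¹ * D.t ^ 1 * D.M.y) *
          D.M.x) * D.M.y) * D.M.x) * D.M.y) * D.M.y) * D.M.x) * (D.M.y : G)⁻¹ := by
            simp only [W, Subgroup.coe_mul, Subgroup.coe_inv]; group
      _ = D.t ^ (5 * 5 + 2) := by rw [hy, D.x_pow, hy, D.x_pow, hy, hy, D.x_pow, hy']
      _ = D.t ^ 2 := by rw [pow_add, pow_mul, D.ht5, one_pow, one_mul]
  have e : (D.M.z : G) * D.c * D.t ^ 2 = (W : G)⁻¹ * ((D.M.z : G) * D.t) * W := by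
    rw [← hz, ← ht]; group
  rw [e, show (W : G)⁻¹ * ((D.M.z : G) * D.t) * W = (W : G)⁻¹ * ((D.M.z : G) * D.t) * ((W : G)⁻¹)⁻¹ by
    rw [inv_inv], conj_pow, D.hzt, mul_one, mul_inv_cancel]

theorem not_zt (hh : ((D.M.z : G) * D.t ^ 2) ^ 3 = 1) : False := by
  have hc := D.zct
  have hS := D.c_conj_pow 2
  have hzc := D.c_comm D.M.z.2
  have hzz : (D.M.z : G) * D.M.z = 1 := congrArg Subtype.val (small_facts D.M D.hcard).2.2.2.1
  have hcc := D.c_sq
  revert hc hS hzc hzz hcc hh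
  generalize hSS : D.t ^ 2 = S, hz0 : (D.M.z : G) = z, hc0 : D.c = c
  intro hh hc hS hzc hzz hcc
  have hcS : c * S = S⁻¹ * c := by rw [← hS, mul_assoc _ c c, hcc, mul_one]
  have e0 : (z * c * S) ^ 3 = z * S⁻¹ * z * S * z * S⁻¹ * c := by
    rw [pow_succ, pow_succ, pow_one]
    calc z * c * S * (z * c * S) * (z * c * S) = z * (c * S) * (z * c) * S * z * (c * S) := by group
      _ = z * (S⁻¹ * c) * (c * z) * S * z * (S⁻¹ * c) := by rw [hcS, hzc]
      _ = z * S⁻¹ * (c * c) * z * S * z * S⁻¹ * c := by group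
      _ = _ := by rw [hcc, mul_one]
  have hzi : z⁻¹ = z := inv_eq_of_mul_eq_one_right hzz
  have hci : c⁻¹ = c := inv_eq_of_mul_eq_one_right hcc
  have e1 : S * z * S = z * S⁻¹ * z := by
    rw [pow_succ, pow_succ, pow_one] at hh
    calc S * z * S = z⁻¹ * (z * S * (z * S) * (z * S)) * S⁻¹ * z⁻¹ := by group
      _ = z * S⁻¹ * z := by rw [hh, hzi, mul_one]
  have e2 : S * z * S * S * z * S⁻¹ = c := by
    rw [e1]
    rw [hc] at e0
    rw [← hci]
    exact eq_inv_of_mul_eq_one_left e0.symm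
  have e3 : z * S * S * z = S⁻¹ * S⁻¹ * c := by
    calc z * S * S * z = S⁻¹ * (S * z * S * S * z * S⁻¹) * S := by group
      _ = S⁻¹ * (c * S) := by rw [e2, mul_assoc]
      _ = _ := by rw [hcS, mul_assoc]
  have e4 : z * S⁻¹ * S⁻¹ * z = c * S * S := by
    have := congrArg (·⁻¹) e3
    simp only [mul_inv_rev, inv_inv, hzi, hci] at this
    rw [mul_assoc c S S, ← this]
    group
  have e5 : S * S = S⁻¹ * S⁻¹ := by
    calc S * S = z * (z * S * S * z) * z := by
          rw [show z * (z * S * S * z) * z = (z * z) * (S * S) * (z * z) by group, hzz, one_mul, mul_one]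
      _ = z * (S⁻¹ * S⁻¹) * (c * z) := by rw [e3]; group
      _ = (z * S⁻¹ * S⁻¹ * z) * c := by rw [← hzc]; group
      _ = (c * S) * (S * c) := by rw [e4]; group
      _ = S⁻¹ * (c * S) * c := by conv_lhs => rw [hcS]
                                  group
      _ = S⁻¹ * S⁻¹ * (c * c) := by rw [hcS]; group
      _ = _ := by rw [hcc, mul_one]
  refine D.t_pow_ne (d := 8) (by norm_num) ?_
  have : D.t ^ 8 = S * S * (S * S) := by
    rw [show 8 = 2 * 4 from rfl, pow_mul, hSS, pow_succ, pow_succ, pow_succ, pow_one, ← mul_assoc]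
  rw [this]
  conv => arg 2; arg 1; rw [e5]
  rw [show S⁻¹ * S⁻¹ * (S * S) = 1 by group]
  exact one_mem N

/-- An automorphism fixing `x`, `y` and `z` is inner. -/
theorem inner_of_fix_xyz (α : MulAut G) (hx : α (D.M.x : G) = D.M.x) (hy : α (D.M.y : G) = D.M.y)
    (hz : α (D.M.z : G) = D.M.z) : α ∈ Cfsg.Inn G := by
  have hc : α D.c = D.c := by
    show α ((D.M.x : G) * D.M.x) = (D.M.x : G) * D.M.x
    rw [map_mul, hx]
  have hhub : ∀ h : N, h ∈ hub D.M → α D.t * h = h * α D.t := fun h hh => by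
    have hfix : α (h : G) = h := by
      have hle : hub D.M ≤ (MonoidHom.eqLocus α.toMonoidHom (MonoidHom.id G)).comap N.subtype := by
        refine (Subgroup.closure_le _).2 ?_
        rintro n (rfl | rfl)
        · exact hy
        · show α ((D.M.x : G)⁻¹ * D.M.y * D.M.x) = _
          rw [map_mul, map_mul, map_inv, hx, hy]
          rfl
      exact hle hh
    rw [← hfix, ← map_mul, D.hub_comm hh, map_mul]
  obtain ⟨i, hi, hti⟩ := D.eq_t_pow (by rw [← map_pow, D.ht5, map_one])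
    (by rw [← hc, ← map_mul, ← map_mul, D.c_conj, map_inv]) hhub
  have h3 : ((D.M.z : G) * D.t ^ i) ^ 3 = 1 := by rw [← hti, ← hz, ← map_mul, ← map_pow, D.hzt, map_one]
  interval_cases i
  · exfalso
    rw [pow_zero, ← map_one α] at hti
    exact D.t_not_mem (α.injective hti ▸ one_mem N)
  · refine ⟨1, ?_⟩
    rw [pow_one] at hti
    rw [map_one]
    exact MulEquiv.ext fun g => (DFunLike.congr_fun
      (D.hom_ext (φ := α.toMonoidHom) (ψ := MonoidHom.id G) hx hy hz hti) g).symm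
  · exact (D.not_zt h3).elim
  · refine (D.not_zt ?_).elim
    have e : (D.M.z : G) * D.t ^ 2 = D.c * ((D.M.z : G) * D.t ^ 3) * D.c⁻¹ := by
      have h2 : D.t ^ 2 = (D.t ^ 3)⁻¹ :=
        (inv_eq_of_mul_eq_one_right (by rw [← pow_add]; exact D.ht5)).symm
      rw [h2, ← D.c_conj_pow, D.c_inv, ← mul_assoc, ← mul_assoc, D.c_comm D.M.z.2]
      group
    rw [e, conj_pow, h3, mul_one, mul_inv_cancel]
  · refine ⟨D.c, MulEquiv.ext fun g => (DFunLike.congr_fun
      (D.hom_ext (φ := α.toMonoidHom) (ψ := (MulAut.conj D.c).toMonoidHom) ?_ ?_ ?_ ?_) g).symm⟩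
    iterate 3 first
      | (show α (D.M.x : G) = _; rw [hx]; exact (by
          show (D.M.x : G) = D.c * D.M.x * D.c⁻¹
          rw [← D.c_comm D.M.x.2, mul_inv_cancel_right]))
      | (show α (D.M.y : G) = _; rw [hy]; exact (by
          show (D.M.y : G) = D.c * D.M.y * D.c⁻¹
          rw [← D.c_comm D.M.y.2, mul_inv_cancel_right]))
      | (show α (D.M.z : G) = _; rw [hz]; exact (by
          show (D.M.z : G) = D.c * D.M.z * D.c⁻¹
          rw [← D.c_comm D.M.z.2, mul_inv_cancel_right]))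
    show α D.t = D.c * D.t * D.c⁻¹
    rw [hti, D.c_inv, D.c_conj]
    exact (inv_eq_of_mul_eq_one_right (by rw [← pow_succ']; exact D.ht5)).symm

/-- The outer automorphism group has order two. -/
theorem out_card (σ : G →* G) (hx : σ D.M.x = D.M.x) (hy : σ D.M.y = D.M.y)
    (hz : σ D.M.z = D.M.z * D.c) (ht : σ D.t = D.t ^ 2) : Nat.card (Cfsg.Out G) = 2 := by
  classical
  have hc : σ D.c = D.c := by
    show σ ((D.M.x : G) * D.M.x) = (D.M.x : G) * D.M.x
    rw [map_mul, hx]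
  have hfix : ∀ g : G, g ∈ N → (MulAut.conj D.c) g = g := fun g hg => by
    rw [MulAut.conj_apply, ← D.c_comm hg, mul_inv_cancel_right]
  have hsq : σ.comp σ = (MulAut.conj D.c).toMonoidHom := by
    refine D.hom_ext ?_ ?_ ?_ ?_
    · show σ (σ _) = MulAut.conj D.c (D.M.x : G); rw [hx, hx, hfix _ D.M.x.2]
    · show σ (σ _) = MulAut.conj D.c (D.M.y : G); rw [hy, hy, hfix _ D.M.y.2]
    · show σ (σ _) = MulAut.conj D.c (D.M.z : G)
      rw [hz, map_mul, hz, hc, mul_assoc, D.c_sq, mul_one, hfix _ D.M.z.2]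
    · show σ (σ _) = MulAut.conj D.c D.t
      rw [ht, map_pow, ht, MulAut.conj_apply, D.c_inv, D.c_conj, ← pow_mul]
      exact (inv_eq_of_mul_eq_one_right (by rw [← pow_succ']; exact D.ht5)).symm
  have hbij : Function.Bijective σ := by
    have h : Function.Bijective (σ ∘ σ) := by
      rw [← MonoidHom.coe_comp, hsq]
      exact (MulAut.conj D.c).bijective
    exact ⟨h.1.of_comp, h.2.of_comp⟩
  let S : MulAut G := MulEquiv.ofBijective σ hbij
  have hpar : ∀ n : N, σ (n : G) = if n ∈ D.M.K then (n : G) else n * D.c := by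
    intro n
    have hn : n ∈ Subgroup.closure ({D.M.x, D.M.y, D.M.z} : Set N) := D.M.gen ▸ Subgroup.mem_top n
    induction hn using Subgroup.closure_induction with
    | mem a ha =>
      rcases ha with rfl | rfl | rfl
      · rw [if_pos (x_mem_K _), hx]
      · rw [if_pos (y_mem_K _), hy]
      · rw [if_neg (z_not_mem_K _), hz]
    | one => simp
    | mul a b _ _ ha hb =>
      rw [Subgroup.coe_mul, map_mul, ha, hb]
      have := Subgroup.mul_mem_iff_of_index_two D.M.index_K (a := a) (b := b)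
      have hcb := D.c_comm b.2
      by_cases h1 : a ∈ D.M.K <;> by_cases h2 : b ∈ D.M.K
      · rw [if_pos h1, if_pos h2, if_pos (mul_mem h1 h2)]
      · rw [if_pos h1, if_neg h2, if_neg fun h => h2 ((this.1 h).1 h1), mul_assoc]
      · rw [if_neg h1, if_pos h2, if_neg fun h => h1 ((this.1 h).2 h2), mul_assoc, ← hcb, ← mul_assoc]
      · rw [if_neg h1, if_neg h2, if_pos (this.2 (iff_of_false h1 h2)), mul_assoc (a : G),
          ← mul_assoc D.c, ← hcb, mul_assoc (b : G), D.c_sq, mul_one]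
    | inv a _ ha =>
      rw [Subgroup.coe_inv, map_inv, ha]
      by_cases h1 : a ∈ D.M.K
      · rw [if_pos h1, if_pos (inv_mem h1)]
      · rw [if_neg h1, if_neg (fun h => h1 (inv_mem_iff.1 h)), mul_inv_rev, D.c_inv,
          ← D.c_comm (inv_mem a.2)]
  have hS : S ∉ Cfsg.Inn G := by
    rintro ⟨g, hg⟩
    have hgσ : ∀ w, g * w * g⁻¹ = σ w := fun w => DFunLike.congr_fun hg w
    have hgN : g ∈ N := D.centralizer_c.1 (mul_inv_eq_iff_eq_mul.1 ((hgσ D.c).trans hc))
    rcases D.cent_K ⟨g, hgN⟩ (fun k hk => Subtype.ext (by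
      have e := hgσ (k : G)
      rw [hpar, if_pos hk] at e
      exact (mul_inv_eq_iff_eq_mul.1 e).symm)) with e | e
    all_goals
      have e2 := hgσ (D.M.z : G)
      simp only at e
      rw [hz, e] at e2
    · rw [one_mul, inv_one, mul_one] at e2
      exact D.c_ne (mul_eq_left.1 e2.symm)
    · rw [← D.c_comm D.M.z.2, mul_inv_cancel_right] at e2
      exact D.c_ne (mul_eq_left.1 e2.symm)
  rw [Nat.card_eq_two_iff' (1 : Cfsg.Out G)]
  refine ⟨(S : Cfsg.Out G), fun h => hS ((QuotientGroup.eq_one_iff S).1 h), fun o => ?_⟩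
  induction o using QuotientGroup.induction_on with
  | H α =>
    intro hα
    obtain ⟨g, h1, h2, h3⟩ := D.exists_normal_form α
    have hcl : ((MulAut.conj g * α : MulAut G) : Cfsg.Out G) = (α : Cfsg.Out G) := by
      rw [QuotientGroup.mk_mul, (QuotientGroup.eq_one_iff (N := Cfsg.Inn G) (MulAut.conj g)).2 (MonoidHom.mem_range.2 ⟨g, rfl⟩), one_mul]
    rw [← hcl] at hα ⊢
    set β := MulAut.conj g * α with hβ
    rcases h3 with h3 | h3
    · exact absurd ((QuotientGroup.eq_one_iff β).2 (D.inner_of_fix_xyz β h1 h2 h3)) hα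
    · have e : S⁻¹ * β ∈ Cfsg.Inn G := by
        refine D.inner_of_fix_xyz _ ?_ ?_ ?_
        · rw [MulAut.mul_apply, h1]; exact S.symm_apply_eq.2 hx.symm
        · rw [MulAut.mul_apply, h2]; exact S.symm_apply_eq.2 hy.symm
        · rw [MulAut.mul_apply, h3]; exact S.symm_apply_eq.2 hz.symm
      exact (QuotientGroup.eq.2 e).symm

end Frame

end H99.HN
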