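import Cfsg.Agent.H99.HN.Outer
import Cfsg.Agent.H81.HN.Glue
import Cfsg.Agent.H77.HN.Facts

/-!
The twist `z ↦ z x²`, `t ↦ t²` of the presented Harada–Norton group and its outer automorphism
group, given the bound on the group on `x, y, z`.
-/

set_option autoImplicit false
set_option maxRecDepth 100000

namespace H99.HN

open Cfsg H81.HNCover

/-- The ten relations survive multiplying the third generator by a central involution. -/
theorem twist_rel {G : Type*} [Group G] {X Y Z C : G} (h : H77.HN.XYZRel X Y Z) (hC : C * C = 1)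
    (hX : Commute C X) (hY : Commute C Y) (hZ : Commute C Z) : H77.HN.XYZRel X Y (Z * C) := by
  obtain ⟨h1, h2, h3, h4, h5, h6, h7, h8, h9, h10⟩ := h
  refine ⟨h1, h2, h3, h4, h5, h6, ?_, ?_, ?_, ?_⟩
  · rw [hZ.symm.mul_pow, h7, one_mul, pow_two, hC]
  · have e : Z * C * X = Z * X * C := by rw [mul_assoc, hX.eq, ← mul_assoc]
    rw [e, (hZ.mul_right hX).symm.mul_pow, h8, one_mul, pow_two, hC]
  · refine Eq.trans ?_ h9
    generalize hW : Y * X * Y * X * (Y ^ 2) * X * Y⁻¹ = W
    have hCW : Commute C W := by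
      rw [← hW]
      exact (((((hY.mul_right hX).mul_right hY).mul_right hX).mul_right (hY.pow_right 2)).mul_right hX).mul_right
        hY.inv_right
    have e : (Z * C)⁻¹ * W⁻¹ * (Z * C) * W = Z⁻¹ * W⁻¹ * Z * W := by
      calc _ = C⁻¹ * (Z⁻¹ * W⁻¹ * Z) * (C * W) := by group
        _ = C⁻¹ * (Z⁻¹ * W⁻¹ * Z * W) * C := by rw [hCW.eq]; group
        _ = (Z⁻¹ * W⁻¹ * Z * W) * (C⁻¹ * C) := by
          have hc : Commute C (Z⁻¹ * W⁻¹ * Z * W) :=
            ((hZ.inv_right.mul_right hCW.inv_right).mul_right hZ).mul_right hCW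
          rw [hc.inv_left.eq, mul_assoc]
        _ = _ := by rw [inv_mul_cancel, mul_one]
    rw [e]
  · generalize hU : Y ^ 3 * X * Y * X * Y = U at h10 ⊢
    have hCU : Commute C U := by
      rw [← hU]
      exact ((((hY.pow_right 3).mul_right hX).mul_right hY).mul_right hX).mul_right hY
    have e : U⁻¹ * (Z * C) * U * X = U⁻¹ * Z * U * X * C := by
      calc U⁻¹ * (Z * C) * U * X = U⁻¹ * Z * (C * U) * X := by group
        _ = U⁻¹ * Z * U * (C * X) := by rw [hCU.eq]; group
        _ = _ := by rw [hX.eq]; group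
    have hc : Commute C (U⁻¹ * Z * U * X) :=
      ((hCU.inv_right.mul_right hZ).mul_right hCU).mul_right hX
    rw [e, hc.symm.mul_pow, mul_assoc Z C, ← mul_assoc C, (hc.pow_right 3).eq, mul_assoc _ C,
      ← mul_assoc, h10, one_mul, ← pow_succ', show 3 + 1 = 2 + 2 from rfl, pow_add, pow_two, hC,
      one_mul]

open H77.HN in
/-- The data of the presented group. -/
noncomputable def frame (hA : XYZBound) : Frame iota.range where
  M := H81.HNGlue.model hA
  hcard := H81.HNGlue.card_range hA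
  hidx := index_range hA
  f := orbitOf hA
  h0 := orbitOf_base hA
  hsize := orbitOf_size hA
  htrans _ _ h := orbitOf_trans hA h
  t := pres Spor.HN.t
  ht5 := t_rels.1
  htx := by
    rw [(H81.HNGlue.model_coe hA).1]
    exact eq_inv_of_mul_eq_one_left t_rels.2.1
  hty := by
    rw [(H81.HNGlue.model_coe hA).2.1]
    exact t_rels.2.2.1.eq
  hzt := by
    rw [(H81.HNGlue.model_coe hA).2.2]
    exact t_rels.2.2.2
  hgen := by
    obtain ⟨hx, hy, hz⟩ := H81.HNGlue.model_coe hA
    rw [hx, hy, hz, eq_top_iff, ← PresentedGroup.closure_range_of, Subgroup.closure_le]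
    rintro _ ⟨g, rfl⟩
    apply Subgroup.subset_closure
    cases g
    · exact Or.inl rfl
    · exact Or.inr (Or.inl rfl)
    · exact Or.inr (Or.inr (Or.inl rfl))
    · exact Or.inr (Or.inr (Or.inr rfl))

open H77.HN in
/-- The values of the twist on the generators. -/
noncomputable def twistGen : Spor.HN.Gen → Spor.HN
  | .x => pres Spor.HN.x
  | .y => pres Spor.HN.y
  | .z => pres Spor.HN.z * (pres Spor.HN.x * pres Spor.HN.x)
  | .t => pres Spor.HN.t ^ 2

open H77.HN in
theorem twist_kills (hA : XYZBound) :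
    ∀ r ∈ Spor.coxRelators Spor.HN.edges ∪ {r | r ∈ Spor.HN.extra},
      FreeGroup.lift twistGen r = 1 := by
  rintro r (⟨a, ha, -⟩ | hr)
  · simp [Spor.coxNodes, Spor.HN.edges] at ha
  let D := frame hA
  obtain ⟨ex, ey, ez⟩ := H81.HNGlue.model_coe hA
  have ec : D.c = pres Spor.HN.x * pres Spor.HN.x := by
    show ((H81.HNGlue.model hA).x : Spor.HN) * (H81.HNGlue.model hA).x = _
    rw [ex]
  have hcx : Commute D.c (pres Spor.HN.x) := by
    rw [show pres Spor.HN.x = ((D.M.x : iota.range) : Spor.HN) from ex.symm]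
    exact (D.c_comm D.M.x.2).symm
  have hcy : Commute D.c (pres Spor.HN.y) := by
    rw [show pres Spor.HN.y = ((D.M.y : iota.range) : Spor.HN) from ey.symm]
    exact (D.c_comm D.M.y.2).symm
  have hcz : Commute D.c (pres Spor.HN.z) := by
    rw [show pres Spor.HN.z = ((D.M.z : iota.range) : Spor.HN) from ez.symm]
    exact (D.c_comm D.M.z.2).symm
  have hcc := D.c_sq
  have hzt : (pres Spor.HN.z * D.c * (pres Spor.HN.t) ^ 2) ^ 3 = 1 := by
    rw [show pres Spor.HN.z = ((D.M.z : iota.range) : Spor.HN) from ez.symm]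
    exact D.zct
  rw [ec] at hcx hcy hcz hcc hzt
  obtain ⟨g1, g2, g3, g4, g5, g6, g7, g8, g9, g10⟩ := twist_rel xyzRel hcc hcx hcy hcz
  obtain ⟨t5, tx, ty, -⟩ := t_rels
  simp only [Spor.HN.extra, List.mem_cons, List.not_mem_nil, or_false, Set.mem_setOf_eq] at hr
  rcases hr with rfl | rfl | rfl | rfl | rfl | rfl | rfl | rfl | rfl | rfl | rfl | rfl | rfl | rfl <;>
    simp only [Spor.HN.x, Spor.HN.y, Spor.HN.z, Spor.HN.t, map_mul, map_inv, map_pow,
      FreeGroup.lift_apply_of, twistGen]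
  · exact g1
  · exact g2
  · exact g3
  · exact g4
  · exact g5
  · exact g6
  · exact g7
  · exact g8
  · exact g9
  · exact g10
  · rw [← pow_mul, mul_comm, pow_mul, t5, one_pow]
  · have e := eq_inv_of_mul_eq_one_left tx
    have e2 := _root_.conj_pow (a := (pres Spor.HN.x)⁻¹) (b := pres Spor.HN.t) (i := 2)
    rw [inv_inv, e] at e2
    rw [← e2, inv_pow, inv_mul_cancel]
  · rw [show ((pres Spor.HN.t) ^ 2)⁻¹ * (pres Spor.HN.y)⁻¹ * (pres Spor.HN.t) ^ 2 * pres Spor.HN.y =
        ((pres Spor.HN.y * (pres Spor.HN.t) ^ 2)⁻¹) * ((pres Spor.HN.t) ^ 2 * pres Spor.HN.y) by group,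
      (ty.pow_left 2).eq, inv_mul_cancel]
  · exact hzt

open H77.HN in
/-- The outer automorphism group of the presented group has order two. -/
theorem out_card (hA : XYZBound) : Nat.card (Cfsg.Out Spor.HN) = 2 := by
  obtain ⟨ex, ey, ez⟩ := H81.HNGlue.model_coe hA
  have h : ∀ g, PresentedGroup.toGroup (twist_kills hA) (PresentedGroup.of g) = twistGen g :=
    fun g => PresentedGroup.toGroup.of _
  refine (frame hA).out_card (PresentedGroup.toGroup (twist_kills hA)) ?_ ?_ ?_ ?_
  · show PresentedGroup.toGroup _ ((H81.HNGlue.model hA).x : Spor.HN) = ((H81.HNGlue.model hA).x : Spor.HN)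
    rw [ex]; exact h .x
  · show PresentedGroup.toGroup _ ((H81.HNGlue.model hA).y : Spor.HN) = ((H81.HNGlue.model hA).y : Spor.HN)
    rw [ey]; exact h .y
  · show PresentedGroup.toGroup _ ((H81.HNGlue.model hA).z : Spor.HN) = (H81.HNGlue.model hA).z *
      ((H81.HNGlue.model hA).x * (H81.HNGlue.model hA).x : Spor.HN)
    rw [ez, ex]; exact h .z
  · exact h .t

end H99.HN
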